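import Cfsg.Agent.BlocksB.FrobeniusSylow.Setup
import Cfsg.Agent.BlocksB.Cyclic.Coherence
import Cfsg.Agent.SL2C.AbChar

/-!
# The principal block with an abelian Sylow subgroup and a free cyclic inertial quotient
-/

set_option autoImplicit false
set_option linter.style.haveILetI false
set_option linter.unusedSectionVars false

namespace CfsgLib.FrobeniusSylow

open Cfsg Finset CfsgLib.Block CfsgLib.Block.Chr CfsgLib.SectionCount CfsgLib.SL2C
open scoped ComplexConjugate
open scoped Classical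

universe u

variable {G : Type u} [Group G] [Fintype G] {p : ℕ} [Fact p.Prime]

/-- The multiplicity of a linear character in the restriction. -/
theorem exists_restrict_mult (H : Subgroup G) [Fintype H] (χ : IrrCharacter G) (μ : H →* ℂˣ) :
    ∃ k : ℕ, (Nat.card H : ℂ) * k = ∑ u : H, (χ : G → ℂ) (u : G) * conj (μ u : ℂ) := by
  obtain ⟨k, hk⟩ := CfsgLib.Char.IsCharacter.exists_classInner_eq_natCast
    (CfsgLib.Char.IsCharacter.restrict (isCharacter_irr χ) H)
    (CfsgLib.Char.linearCharEquiv μ).1.2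
  refine ⟨k, ?_⟩
  rw [← hk, classInner, mul_inv_cancel_left₀ (Nat.cast_ne_zero.2 Nat.card_pos.ne')]
  rfl

/-- The multiplicity minus that of the trivial character. -/
noncomputable def vec (H : Subgroup G) [Fintype H] (χ : IrrCharacter G) (μ : H →* ℂˣ) : ℤ :=
  ((exists_restrict_mult H χ μ).choose : ℤ) - ((exists_restrict_mult H χ 1).choose : ℤ)

theorem card_mul_vec (H : Subgroup G) [Fintype H] (χ : IrrCharacter G) (μ : H →* ℂˣ) :
    (Nat.card H : ℂ) * (vec H χ μ : ℂ) = ∑ u : H, (χ : G → ℂ) (u : G) * (conj (μ u : ℂ) - 1) := by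
  rw [vec, Int.cast_sub, Int.cast_natCast, Int.cast_natCast, mul_sub,
    (exists_restrict_mult H χ μ).choose_spec, (exists_restrict_mult H χ 1).choose_spec,
    ← sum_sub_distrib]
  exact sum_congr rfl fun u _ => by simp [mul_sub]

theorem vec_one (H : Subgroup G) [Fintype H] (χ : IrrCharacter G) : vec H χ 1 = 0 := sub_self _

theorem apply_eq_sum_vec (H : Subgroup G) [Fintype H] (hcomm : ∀ a b : H, a * b = b * a)
    (χ : IrrCharacter G) {u : H} (hu : u ≠ 1) :
    (χ : G → ℂ) (u : G) = ∑ μ : H →* ℂˣ, (vec H χ μ : ℂ) * (μ u : ℂ) := by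
  have h0 : (Nat.card H : ℂ) ≠ 0 := Nat.cast_ne_zero.2 Nat.card_pos.ne'
  refine mul_left_cancel₀ h0 ?_
  simp only [mul_sum, ← mul_assoc, card_mul_vec, sum_mul]
  rw [sum_comm, sum_eq_single u]
  · simp only [mul_assoc, sub_mul, conj_char, MonoidHom.inv_apply, ← Units.val_mul, one_mul,
      inv_mul_cancel, Units.val_one, ← mul_sum, sum_sub_distrib, sum_dual hcomm, if_neg hu,
      sum_const, card_univ, card_dual hcomm, nsmul_eq_mul, mul_one, sub_zero,
      Nat.card_eq_fintype_card]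
    ring
  · intro w _ hw
    simp only [mul_assoc, sub_mul, conj_char, MonoidHom.inv_apply, ← Units.val_mul, one_mul,
      ← map_inv, ← map_mul, ← mul_sum, sum_sub_distrib, sum_dual hcomm, if_neg hu,
      if_neg fun h : w⁻¹ * u = 1 => hw (inv_mul_eq_one.1 h), sub_zero, mul_zero]
  · simp

namespace FrobData

variable {P : Sylow p G} {g : G} {m : ℕ} (F : FrobData P g m)
include F

theorem comm' : ∀ a b : (P : Subgroup G), a * b = b * a := fun a b => F.comm.is_comm.comm a b

theorem comp_act_ne_one {μ : (P : Subgroup G) →* ℂˣ} (hμ : μ ≠ 1) (l : ℕ) :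
    μ.comp (F.act l) ≠ 1 := fun h => hμ (MonoidHom.ext fun w => by
  obtain ⟨y, rfl⟩ := F.act_surjective l w
  exact DFunLike.congr_fun h y)

theorem dual_injOn {μ : (P : Subgroup G) →* ℂˣ} (hμ : μ ≠ 1) :
    Set.InjOn (fun l => μ.comp (F.act l)) ↑(range m) := by
  have hfree : ∀ l, 0 < l → l < m → μ.comp (F.act l) ≠ μ := by
    intro l hl0 hl h
    have hinj : Function.Injective (fun w : (P : Subgroup G) => F.act l w * w⁻¹) := by
      intro w w' he
      simp only at he
      by_contra hne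
      have h1 : F.act l (w * w'⁻¹) = w * w'⁻¹ := by
        rw [map_mul, map_inv, mul_inv_eq_iff_eq_mul.1 he, mul_assoc (F.act l w'),
          F.comm' (F.act l w'), mul_inv_cancel_right, F.comm']
      have h3 := F.free (fun h' => hne (mul_inv_eq_one.1 h')) h1
      exact absurd (Nat.le_of_dvd hl0 h3) (not_le.2 hl)
    refine hμ (MonoidHom.ext fun w => ?_)
    obtain ⟨y, rfl⟩ := Finite.injective_iff_surjective.1 hinj w
    have h2 : μ (F.act l y) = μ y := DFunLike.congr_fun h y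
    rw [map_mul, map_inv, h2, mul_inv_cancel, MonoidHom.one_apply]
  have key : ∀ i j, i ≤ j → j < m → μ.comp (F.act i) = μ.comp (F.act j) → i = j := by
    intro i j hij hj he
    by_contra hne
    refine hfree (j - i) (by omega) (by omega) (MonoidHom.ext fun w => ?_)
    obtain ⟨y, rfl⟩ := F.act_surjective i w
    have := DFunLike.congr_fun he y
    simp only [MonoidHom.comp_apply] at this ⊢
    rw [this, ← F.act_add, Nat.sub_add_cancel hij]
  intro i hi j hj he
  rw [coe_range, Set.mem_Iio] at hi hj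
  rcases le_total i j with h | h
  · exact key i j h hj he
  · exact (key j i h hi he.symm).symm

variable {M : Ideal AlgInt} [M.IsPrime] [Fintype (IrrCharacter G)]

theorem sum_vec_mul (hM : IsPModular p M) {μ ν : (P : Subgroup G) →* ℂˣ} (hμ : μ ≠ 1)
    (hν : ν ≠ 1) :
    ∑ χ ∈ univ.filter (· ∈ principalBlock M G),
        vec (P : Subgroup G) χ μ * vec (P : Subgroup G) χ ν =
      (m : ℤ) + (((range m).filter fun l => ν = μ.comp (F.act l)).card : ℤ) := by
  have hP0 : (Nat.card (P : Subgroup G) : ℂ) ≠ 0 := Nat.cast_ne_zero.2 Nat.card_pos.ne'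
  have key : ((Nat.card (P : Subgroup G) : ℂ) * Nat.card (P : Subgroup G)) * ∑ χ ∈ univ.filter (· ∈ principalBlock M G),
        (vec (P : Subgroup G) χ μ : ℂ) * (vec (P : Subgroup G) χ ν : ℂ) =
      ((Nat.card (P : Subgroup G) : ℂ) * Nat.card (P : Subgroup G)) *
        ((m : ℂ) + (((range m).filter fun l => ν = μ.comp (F.act l)).card : ℂ)) := by
    have e1 : ∀ χ : IrrCharacter G,
        (Nat.card (P : Subgroup G) : ℂ) * Nat.card (P : Subgroup G) * ((vec (P : Subgroup G) χ μ : ℂ) * (vec (P : Subgroup G) χ ν : ℂ)) =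
        ∑ u : (P : Subgroup G), ∑ v : (P : Subgroup G), (conj (μ u : ℂ) - 1) * ((ν v : ℂ) - 1) *
          ((χ : G → ℂ) (u : G) * conj ((χ : G → ℂ) (v : G))) := by
      intro χ
      have h2 := congrArg conj (card_mul_vec (P : Subgroup G) χ ν)
      rw [map_mul, map_natCast, map_intCast, map_sum] at h2
      rw [show (Nat.card (P : Subgroup G) : ℂ) * Nat.card (P : Subgroup G) * ((vec (P : Subgroup G) χ μ : ℂ) * (vec (P : Subgroup G) χ ν : ℂ)) =
        ((Nat.card (P : Subgroup G) : ℂ) * vec (P : Subgroup G) χ μ) * ((Nat.card (P : Subgroup G) : ℂ) * vec (P : Subgroup G) χ ν) by ring,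
        card_mul_vec (P : Subgroup G) χ μ, h2, sum_mul_sum]
      refine sum_congr rfl fun u _ => sum_congr rfl fun v _ => ?_
      rw [map_mul, map_sub, map_one, Complex.conj_conj]
      ring
    rw [mul_sum, sum_congr rfl fun x _ => e1 x, sum_comm, sum_congr rfl fun u _ => sum_comm]
    simp only [← mul_sum]
    rw [sum_comm]
    have e2 : ∀ v : (P : Subgroup G), ∑ u : (P : Subgroup G), (conj (μ u : ℂ) - 1) * ((ν v : ℂ) - 1) *
          ∑ χ ∈ univ.filter (· ∈ principalBlock M G),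
            (χ : G → ℂ) (u : G) * conj ((χ : G → ℂ) (v : G)) =
        ∑ l ∈ range m, (Nat.card (P : Subgroup G) : ℂ) * ((conj (μ (F.act l v) : ℂ) - 1) * ((ν v : ℂ) - 1)) := by
      intro v
      by_cases hv : v = 1
      · subst hv
        simp
      rw [← sum_image (g := fun l => F.act l v)
        (f := fun u => (Nat.card (P : Subgroup G) : ℂ) * ((conj (μ u : ℂ) - 1) * ((ν v : ℂ) - 1)))
        (F.act_injOn hv)]
      symm
      refine (sum_congr rfl fun u hu => ?_).trans
        (sum_subset (subset_univ _) fun u _ hu => ?_)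
      · obtain ⟨l, -, rfl⟩ := mem_image.1 hu
        rw [F.gram hM (F.act_ne_one hv l) hv, if_pos hu]
        ring
      · by_cases hu1 : u = 1
        · subst hu1; simp
        · rw [F.gram hM hu1 hv, if_neg hu, mul_zero]
    rw [sum_congr rfl fun v _ => e2 v, sum_comm]
    simp only [← mul_sum]
    rw [mul_assoc]
    congr 1
    have e3 : ∀ l, ∑ v : (P : Subgroup G), (conj (μ (F.act l v) : ℂ) - 1) * ((ν v : ℂ) - 1) =
        (Nat.card (P : Subgroup G) : ℂ) * ((if ν = μ.comp (F.act l) then 1 else 0) + 1) := by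
      intro l
      have e4 : ∀ v : (P : Subgroup G), (conj (μ (F.act l v) : ℂ) - 1) * ((ν v : ℂ) - 1) =
          (((μ.comp (F.act l))⁻¹ * ν) v : ℂ) - (((μ.comp (F.act l))⁻¹) v : ℂ) - (ν v : ℂ) + 1 :=
        fun v => by
          rw [MonoidHom.mul_apply, Units.val_mul, ← conj_char, MonoidHom.comp_apply]
          ring
      have i1 : (μ.comp (F.act l))⁻¹ * ν = 1 ↔ ν = μ.comp (F.act l) :=
        (inv_mul_eq_one (G := (P : Subgroup G) →* ℂˣ)).trans eq_comm
      simp only [e4, sum_add_distrib, sum_sub_distrib, sum_char]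
      rw [if_neg (fun h => F.comp_act_ne_one hμ l ((inv_eq_one (α := (P : Subgroup G) →* ℂˣ)).1 h)), if_neg hν,
        sum_const, card_univ, nsmul_eq_mul, mul_one, Nat.card_eq_fintype_card]
      by_cases hh : ν = μ.comp (F.act l)
      · rw [if_pos hh, if_pos (i1.2 hh)]; ring
      · rw [if_neg hh, if_neg fun h => hh (i1.1 h)]; ring
    simp only [e3, ← mul_sum, sum_add_distrib, sum_const, card_range, nsmul_eq_mul, mul_one,
      sum_boole]
    ring
  exact_mod_cast mul_left_cancel₀ (mul_ne_zero hP0 hP0) key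

theorem sum_vec_reg (hM : IsPModular p M) {μ : (P : Subgroup G) →* ℂˣ} {x : G}
    (hx : ¬ p ∣ orderOf x) :
    ∑ χ ∈ univ.filter (· ∈ principalBlock M G),
      (χ : G → ℂ) x * (vec (P : Subgroup G) χ μ : ℂ) = 0 := by
  refine (mul_eq_zero.1 (?_ : (Nat.card (P : Subgroup G) : ℂ) *
    ∑ χ ∈ univ.filter (· ∈ principalBlock M G),
      (χ : G → ℂ) x * (vec (P : Subgroup G) χ μ : ℂ) = 0)).resolve_left
    (Nat.cast_ne_zero.2 Nat.card_pos.ne')
  rw [mul_sum]
  simp only [mul_left_comm (Nat.card (P : Subgroup G) : ℂ), card_mul_vec, mul_sum]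
  rw [sum_comm]
  refine sum_eq_zero fun u _ => ?_
  by_cases hu : u = 1
  · subst hu; simp
  · have h1 := congrArg conj (F.orth_regular hM hu (x := x⁻¹) (by rwa [orderOf_inv]))
    rw [map_zero, map_sum] at h1
    simp only [← mul_assoc, ← sum_mul]
    rw [show (∑ χ ∈ univ.filter (· ∈ principalBlock M G),
      (χ : G → ℂ) x * (χ : G → ℂ) (u : G)) = 0 from ?_, zero_mul]
    refine Eq.trans (sum_congr rfl fun χ _ => ?_) h1
    rw [map_mul, Complex.conj_conj, conj_irr, inv_inv]

/-- **The structure of the principal block.** -/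
theorem exists_structure (hM : IsPModular p M) (hm : m + 1 < Nat.card (P : Subgroup G))
    [Fintype (principalBlock M G)] {one : principalBlock M G}
    (hone : ∀ x : G, ((one : IrrCharacter G) : G → ℂ) x = 1) :
    ∃ (Y : Finset (principalBlock M G)) (rep : principalBlock M G → ((P : Subgroup G) →* ℂˣ))
      (c δ : ℤ) (S : principalBlock M G → ℤ),
      (δ = 1 ∨ δ = -1) ∧ one ∉ Y ∧ S one = -1 ∧ m * Y.card + 1 = Nat.card (P : Subgroup G) ∧
      (∀ y ∈ Y, rep y ≠ 1 ∧ ∀ u : (P : Subgroup G), u ≠ 1 →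
        ((y : IrrCharacter G) : G → ℂ) (u : G) =
          -(c : ℂ) + (δ : ℂ) * ∑ l ∈ range m, (rep y (F.act l u) : ℂ)) ∧
      (∀ x, x ∉ Y → S x ≠ 0 ∧ ∀ u : (P : Subgroup G), u ≠ 1 →
        ((x : IrrCharacter G) : G → ℂ) (u : G) = -(S x : ℂ)) ∧
      (∀ μ : (P : Subgroup G) →* ℂˣ, μ ≠ 1 → ∃! y, y ∈ Y ∧ ∃ l < m, μ = (rep y).comp (F.act l)) ∧
      (c + δ) ^ 2 + ((Y.card : ℤ) - 1) * c ^ 2 + ∑ x ∈ Yᶜ, S x ^ 2 = (m : ℤ) + 1 ∧
      ∀ y ∈ Y, ∀ x : G, ¬ p ∣ orderOf x →
        (c : ℂ) * (∑ z ∈ Y, ((z : IrrCharacter G) : G → ℂ) x) +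
          (δ : ℂ) * ((y : IrrCharacter G) : G → ℂ) x +
          ∑ z ∈ Yᶜ, (S z : ℂ) * ((z : IrrCharacter G) : G → ℂ) x = 0 := by
  set Q := (P : Subgroup G)
  have hsub : ∀ f : IrrCharacter G → ℤ, ∑ χ ∈ univ.filter (· ∈ principalBlock M G), f χ =
      ∑ x : principalBlock M G, f x.1 := fun f =>
    sum_subtype (univ.filter (· ∈ principalBlock M G)) (p := (· ∈ principalBlock M G)) (by simp) f
  have hsubC : ∀ f : IrrCharacter G → ℂ, ∑ χ ∈ univ.filter (· ∈ principalBlock M G), f χ =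
      ∑ x : principalBlock M G, f x.1 := fun f =>
    sum_subtype (univ.filter (· ∈ principalBlock M G)) (p := (· ∈ principalBlock M G)) (by simp) f
  set d : (Q →* ℂˣ) → principalBlock M G → ℤ := fun μ x => vec Q x.1 μ with hd
  have hgram : ∀ {μ ν : Q →* ℂˣ}, μ ≠ 1 → ν ≠ 1 → ∑ x, d μ x * d ν x =
      (m : ℤ) + (if ν ∈ (range m).image (fun l => μ.comp (F.act l)) then 1 else 0) := by
    intro μ ν hμ hν
    rw [← hsub (fun χ => vec Q χ μ * vec Q χ ν), F.sum_vec_mul hM hμ hν]
    congr 1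
    split_ifs with h
    · obtain ⟨l, hl, rfl⟩ := mem_image.1 h
      rw [Nat.cast_eq_one, card_eq_one]
      refine ⟨l, ext fun i => ?_⟩
      rw [mem_filter, mem_singleton]
      exact ⟨fun hi => (F.dual_injOn hμ hl hi.1 hi.2).symm, by rintro rfl; exact ⟨hl, rfl⟩⟩
    · rw [Nat.cast_eq_zero, card_eq_zero, filter_eq_empty_iff]
      exact fun l hl he => h (mem_image.2 ⟨l, hl, he.symm⟩)
  have hself : ∀ {μ : Q →* ℂˣ}, μ ∈ (range m).image (fun l => μ.comp (F.act l)) := fun {μ} =>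
    mem_image.2 ⟨0, mem_range.2 F.m_pos, MonoidHom.ext fun w => congrArg μ (F.act_zero w)⟩
  set T := univ.filter fun μ : Q →* ℂˣ => μ ≠ 1 with hT
  have hmem : ∀ {μ : Q →* ℂˣ}, μ ∈ T ↔ μ ≠ 1 := fun {μ} => by simp [hT]
  have hfib : ∀ {μ : Q →* ℂˣ}, μ ≠ 1 → T.filter (fun ν => d ν = d μ) =
      (range m).image (fun l => μ.comp (F.act l)) := by
    intro μ hμ
    ext ν
    rw [mem_filter, hmem]
    constructor
    · rintro ⟨hν, he⟩
      by_contra hn'
      have h1 := hgram hμ hν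
      rw [if_neg hn', he, hgram hμ hμ, if_pos hself] at h1
      omega
    · intro h
      have hν : ν ≠ 1 := by
        obtain ⟨l, -, rfl⟩ := mem_image.1 h
        exact F.comp_act_ne_one hμ l
      refine ⟨hν, funext fun x => ?_⟩
      have h1 := hgram hμ hν
      have h2 := hgram hμ hμ
      have h3 := hgram hν hν
      rw [if_pos h] at h1
      rw [if_pos hself] at h2 h3
      have h4 : ∑ x, (d ν x - d μ x) * (d ν x - d μ x) = 0 := by
        simp only [sub_mul, mul_sub, sum_sub_distrib, mul_comm (d ν _) (d μ _)]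
        omega
      exact sub_eq_zero.1 (mul_self_eq_zero.1
        ((sum_eq_zero_iff_of_nonneg fun _ _ => mul_self_nonneg _).1 h4 x (mem_univ x)))
  set I := T.image d with hI
  have hI' : ∀ i : I, ∃ μ : Q →* ℂˣ, μ ≠ 1 ∧ d μ = i.1 := fun i => by
    obtain ⟨μ, hμ, h⟩ := mem_image.1 i.2
    exact ⟨μ, hmem.1 hμ, h⟩
  choose ρ hρ hρd using hI'
  have hTcard : T.card = Nat.card Q - 1 := by
    rw [hT, filter_ne' univ (1 : Q →* ℂˣ), card_erase_of_mem (mem_univ _), card_univ,
      card_dual F.comm', Nat.card_eq_fintype_card]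
  have hIT : T.card = m * I.card := by
    rw [card_eq_sum_card_image d T, ← hI, sum_const_nat fun i hi => ?_, mul_comm]
    obtain ⟨μ, hμ, rfl⟩ := mem_image.1 hi
    rw [hfib (hmem.1 hμ), card_image_of_injOn (F.dual_injOn (hmem.1 hμ)), card_range]
  have hcI : Fintype.card I = I.card := Fintype.card_coe I
  have hI2 : 2 ≤ Fintype.card I := by
    rw [hcI]
    by_contra h
    have h1 : m * I.card ≤ m * 1 := Nat.mul_le_mul_left m (by omega)
    omega
  have hDgram : ∀ i j : I, ∑ x, i.1 x * j.1 x = (m : ℤ) + if i = j then 1 else 0 := by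
    intro i j
    rw [← hρd i, ← hρd j, hgram (hρ i) (hρ j)]
    congr 1
    by_cases hij : i = j
    · subst hij; rw [if_pos hself, if_pos rfl]
    · rw [if_neg hij, if_neg fun h => hij (Subtype.ext ?_)]
      rw [← hfib (hρ i)] at h
      rw [← hρd i, ← hρd j]
      exact (mem_filter.1 h).2.symm
  have hD0 : ∀ i : I, ∀ x : G, ¬ p ∣ orderOf x →
      ∑ z : principalBlock M G, ((z : IrrCharacter G) : G → ℂ) x * (i.1 z : ℂ) = 0 := by
    intro i x hx
    rw [← hρd i, ← hsubC (fun χ => (χ : G → ℂ) x * (vec Q χ (ρ i) : ℂ))]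
    exact F.sum_vec_reg hM hx
  have hdeg0 : ∀ i : I, ∑ z : principalBlock M G,
      (charDegree ((z : IrrCharacter G) : G → ℂ) : ℤ) * i.1 z = 0 := fun i => by
    have h := hD0 i 1 (by rw [orderOf_one]; exact hM.1.not_dvd_one)
    simp only [(irr_one _).1] at h
    exact_mod_cast h
  obtain ⟨δ, ψ, hδ, hψ, S, hS⟩ := CfsgLib.Cyclic.exists_common_vertex (fun i : I => i.1)
    (fun z : principalBlock M G => (charDegree ((z : IrrCharacter G) : G → ℂ) : ℤ))
    (fun z => Int.natCast_pos.2 (irr_one z.1).2) hI2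
    (fun i j => by rw [hDgram i j]; congr) hdeg0
  have hδ2 : δ * δ = 1 := by rcases hδ with h | h <;> rw [h] <;> rfl
  -- the norms
  obtain ⟨i₀⟩ := Fintype.card_pos_iff.1 (show 0 < Fintype.card I by omega)
  have hnorm : ∀ i : I, ∑ z, S z * S z + 2 * (δ * S (ψ i)) = (m : ℤ) := by
    intro i
    have h := hDgram i i
    rw [if_pos rfl] at h
    have e : ∀ z, i.1 z * i.1 z = S z * S z +
        2 * δ * (CfsgLib.Cyclic.unitVec (ψ i) z * S z) +
        δ * δ * (CfsgLib.Cyclic.unitVec (ψ i) z * CfsgLib.Cyclic.unitVec (ψ i) z) := fun z => by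
      have := hS i z; rw [this]; ring
    simp only [e, sum_add_distrib, ← mul_sum, CfsgLib.Cyclic.sum_unitVec_mul,
      CfsgLib.Cyclic.sum_unitVec, if_true, hδ2] at h
    rw [show CfsgLib.Cyclic.unitVec (ψ i) (ψ i) = 1 from if_pos rfl] at h
    linarith
  set c := S (ψ i₀)
  have hc : ∀ i, S (ψ i) = c := fun i => by
    have h1 := hnorm i
    have h2 := hnorm i₀
    rcases hδ with e | e <;> rw [e] at h1 h2 <;> omega
  set Y := univ.image ψ with hY
  have hYc : Y.card = Fintype.card I := by rw [card_image_of_injective _ hψ, card_univ]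
  have hout : ∀ {z}, z ∉ Y → ∀ i : I, i.1 z = S z := fun {z} hz i => by
    have h := hS i z
    rw [CfsgLib.Cyclic.unitVec, if_neg fun he => hz (mem_image.2 ⟨i, mem_univ _, he.symm⟩),
      mul_zero, add_zero] at h
    exact h
  have hin : ∀ i j : I, i.1 (ψ j) = c + δ * (if i = j then 1 else 0) := fun i j => by
    rw [hS i (ψ j), hc j, CfsgLib.Cyclic.unitVec]
    congr 2
    simp only [hψ.eq_iff, eq_comm]
  have hval : ∀ (z : principalBlock M G) (u : Q), u ≠ 1 →
      ((z : IrrCharacter G) : G → ℂ) (u : G) = ∑ μ ∈ T, (d μ z : ℂ) * (μ u : ℂ) := by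
    intro z u hu
    rw [apply_eq_sum_vec Q F.comm' z.1 hu]
    symm
    refine sum_subset (subset_univ T) fun μ _ hμ => ?_
    rw [not_not.1 fun h => hμ (hmem.2 h)]
    simp [hd, vec_one]
  have hvalX : ∀ z, z ∉ Y → ∀ u : Q, u ≠ 1 →
      ((z : IrrCharacter G) : G → ℂ) (u : G) = -(S z : ℂ) := by
    intro z hz u hu
    rw [hval z u hu, sum_congr rfl fun μ hμ => by
      rw [show d μ z = S z from hout hz ⟨d μ, mem_image_of_mem d hμ⟩], ← mul_sum, hT,
      filter_ne' univ (1 : Q →* ℂˣ), sum_erase_eq_sub (mem_univ _), sum_dual F.comm', if_neg hu]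
    simp
  haveI : Nontrivial Q := Finite.one_lt_card_iff_nontrivial.1 (by omega)
  obtain ⟨u₀, hu₀⟩ := exists_ne (1 : Q)
  have hone1 : ∀ μ : Q →* ℂˣ, μ ≠ 1 → d μ one = -1 := by
    intro μ hμ
    have h := card_mul_vec Q one.1 μ
    simp only [hone, one_mul, sum_sub_distrib, sum_const, card_univ, nsmul_eq_mul, mul_one,
      ← map_sum, sum_char, if_neg hμ, map_zero, zero_sub, ← Nat.card_eq_fintype_card] at h
    have h2 : (Nat.card Q : ℂ) * (vec Q one.1 μ : ℂ) = (Nat.card Q : ℂ) * ((-1 : ℤ) : ℂ) := by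
      rw [h]; push_cast; ring
    exact_mod_cast mul_left_cancel₀ (Nat.cast_ne_zero.2 Nat.card_pos.ne') h2
  have honeY : one ∉ Y := by
    intro h
    obtain ⟨i, -, hi⟩ := mem_image.1 h
    obtain ⟨j, hj⟩ := Fintype.exists_ne_of_one_lt_card (show 1 < Fintype.card I by omega) i
    have h1 := hin i i
    have h2 := hin j i
    rw [if_pos rfl, hi, ← hρd i, hone1 _ (hρ i)] at h1
    rw [if_neg hj, hi, ← hρd j, hone1 _ (hρ j)] at h2
    rcases hδ with e | e <;> rw [e] at h1 h2 <;> omega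
  let rep : principalBlock M G → (Q →* ℂˣ) := fun y =>
    if h : ∃ i, ψ i = y then ρ h.choose else 1
  have hrep : ∀ i, rep (ψ i) = ρ i := fun i => by
    have h : ∃ j, ψ j = ψ i := ⟨i, rfl⟩
    show (if h : ∃ j, ψ j = ψ i then ρ h.choose else 1) = ρ i
    rw [dif_pos h, hψ h.choose_spec]
  refine ⟨Y, rep, c, δ, S, hδ, honeY, ?_, ?_, ?_, fun z hz => ⟨fun h0 => ?_, hvalX z hz⟩, ?_, ?_, ?_⟩
  · rw [← hout honeY i₀, ← hρd i₀, hone1 _ (hρ i₀)]
  · rw [hYc, hcI, ← hIT, hTcard]
    exact Nat.sub_add_cancel Nat.card_pos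
  · intro y hy
    obtain ⟨i, -, rfl⟩ := mem_image.1 hy
    rw [hrep]
    refine ⟨hρ i, fun u hu => ?_⟩
    have key : ∀ μ ∈ T, (d μ (ψ i) : ℂ) * (μ u : ℂ) =
        (c : ℂ) * (μ u : ℂ) + (δ : ℂ) * (if d μ = d (ρ i) then (μ u : ℂ) else 0) := by
      intro μ hμ
      rw [show d μ (ψ i) = _ from hin ⟨d μ, mem_image_of_mem d hμ⟩ i]
      by_cases h : d μ = d (ρ i)
      · rw [if_pos h, if_pos (Subtype.ext (h.trans (hρd i)))]
        push_cast
        ring
      · rw [if_neg h, if_neg fun h' => h ((congrArg Subtype.val h').trans (hρd i).symm)]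
        push_cast
        ring
    rw [hval _ u hu, sum_congr rfl key, sum_add_distrib, ← mul_sum, ← mul_sum, ← sum_filter,
      hfib (hρ i), sum_image (F.dual_injOn (hρ i)), hT, filter_ne' univ (1 : Q →* ℂˣ),
      sum_erase_eq_sub (mem_univ _), sum_dual F.comm', if_neg hu, MonoidHom.one_apply,
      Units.val_one]
    simp only [MonoidHom.comp_apply]
    ring
  · obtain h := hvalX z hz u₀ hu₀
    rw [h0, Int.cast_zero, neg_zero] at h
    exact F.apply_ne_zero hM z.2 u₀.2 h
  · intro μ hμ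
    set i : I := ⟨d μ, mem_image_of_mem d (hmem.2 hμ)⟩
    refine ⟨ψ i, ⟨mem_image.2 ⟨i, mem_univ _, rfl⟩, ?_⟩, ?_⟩
    · rw [hrep]
      have : μ ∈ T.filter (fun ν => d ν = d (ρ i)) := mem_filter.2 ⟨hmem.2 hμ, (hρd i).symm⟩
      rw [hfib (hρ i)] at this
      obtain ⟨l, hl, he⟩ := mem_image.1 this
      exact ⟨l, mem_range.1 hl, he.symm⟩
    · rintro y ⟨hy, l, hl, he⟩
      obtain ⟨j, -, rfl⟩ := mem_image.1 hy
      rw [hrep] at he
      have : μ ∈ (range m).image (fun l => (ρ j).comp (F.act l)) :=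
        mem_image.2 ⟨l, mem_range.2 hl, he.symm⟩
      rw [← hfib (hρ j)] at this
      exact congrArg ψ (Subtype.ext ((hρd j).symm.trans (mem_filter.1 this).2.symm))
  · have h := hDgram i₀ i₀
    rw [if_pos rfl, ← sum_add_sum_compl Y, hY, sum_image fun a _ b _ e => hψ e, ← hY,
      sum_congr (s₁ := Yᶜ) rfl fun z hz => by rw [hout (mem_compl.1 hz) i₀, ← sq]] at h
    simp only [hin, ← add_sum_erase _ _ (mem_univ i₀), if_true] at h
    rw [sum_congr (g := fun _ => c * c) rfl fun j hj => by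
      rw [if_neg (Ne.symm (mem_erase.1 hj).1), mul_zero, add_zero], sum_const,
      card_erase_of_mem (mem_univ _), card_univ, nsmul_eq_mul, ← hYc,
      Nat.cast_sub (show 1 ≤ Y.card by omega), Nat.cast_one] at h
    linear_combination h
  · intro y hy x hx
    obtain ⟨i, -, rfl⟩ := mem_image.1 hy
    have h := hD0 i x hx
    rw [← sum_add_sum_compl Y,
      sum_congr (s₁ := Yᶜ) rfl fun z hz => by rw [hout (mem_compl.1 hz) i, mul_comm],
      hY, sum_image fun a _ b _ e => hψ e, ← hY] at h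
    simp only [hin, Int.cast_add, Int.cast_mul, apply_ite (Int.cast : ℤ → ℂ), Int.cast_one,
      Int.cast_zero, mul_add, mul_ite, mul_one, mul_zero, sum_add_distrib, sum_ite_eq, mem_univ,
      if_true, ← sum_mul] at h
    rw [hY, sum_image fun a _ b _ e => hψ e, ← hY]
    linear_combination h

end FrobData

end CfsgLib.FrobeniusSylow
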