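import Cfsg.Agent.BlocksB.FrobeniusSylow.Main
import Cfsg.Agent.Char.Kernel

/-!
# The principal block with free inertial quotient of order three
-/

set_option autoImplicit false
set_option linter.style.haveILetI false
set_option linter.unusedSectionVars false

namespace CfsgLib.FrobeniusSylow

open Cfsg Finset CfsgLib.Block CfsgLib.Block.Chr CfsgLib.SectionCount CfsgLib.SL2C
open scoped ComplexConjugate
open scoped Classical

universe u

/-- The arithmetic of three signed degrees and three values. -/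
theorem sign_arith {X1 X2 X3 D1 D2 D3 : ℤ} (hX : X1 + X2 + X3 = -1) (h1 : X1 ≠ 0) (h2 : X2 ≠ 0)
    (h3 : X3 ≠ 0) (hD1 : D1 ≠ 0) (hD2 : D2 ≠ 0) (hD3 : D3 ≠ 0) (hD : D1 + D2 + D3 = 0)
    (hQ : D1 ^ 2 * (X2 * X3) + D2 ^ 2 * (X1 * X3) + D3 ^ 2 * (X1 * X2) = 0) :
    (if X1 < 0 then 1 else 0) + (if X2 < 0 then 1 else 0) + (if X3 < 0 then 1 else 0) = 2 ∧
      IsSquare (X1 * X2 * X3).natAbs := by
  have one_neg : ∀ {X Y Z A B C : ℤ}, X + Y + Z = -1 → 0 < Y → 0 < Z → A ≠ 0 → B ≠ 0 →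
      A + B + C = 0 → A ^ 2 * (Y * Z) + B ^ 2 * (X * Z) + C ^ 2 * (X * Y) = 0 → False := by
    intro X Y Z A B C hX hY hZ hA hB hABC hQ
    have hB2 : 0 < B ^ 2 * Z := mul_pos (by positivity) hZ
    have hC2 : 0 ≤ C ^ 2 * Y := mul_nonneg (sq_nonneg C) hY.le
    have hXe : X = -1 - Y - Z := by linarith
    have hAe : A = -(B + C) := by linarith
    subst hXe hAe
    nlinarith [sq_nonneg (B * Z - C * Y)]
  have hcases : ¬ (0 < X1 ∧ 0 < X2 ∧ 0 < X3) := fun h => by omega
  have hneg : ¬ (X1 < 0 ∧ X2 < 0 ∧ X3 < 0) := fun ⟨a, b, c⟩ => by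
    have e1 : 0 < D1 ^ 2 * (X2 * X3) := mul_pos (by positivity) (mul_pos_of_neg_of_neg b c)
    have e2 : 0 < D2 ^ 2 * (X1 * X3) := mul_pos (by positivity) (mul_pos_of_neg_of_neg a c)
    have e3 : 0 < D3 ^ 2 * (X1 * X2) := mul_pos (by positivity) (mul_pos_of_neg_of_neg a b)
    linarith
  have g1 : ¬ (X1 < 0 ∧ 0 < X2 ∧ 0 < X3) := fun ⟨_, b, c⟩ =>
    one_neg hX b c hD1 hD2 hD hQ
  have g2 : ¬ (0 < X1 ∧ X2 < 0 ∧ 0 < X3) := fun ⟨a, _, c⟩ =>
    one_neg (X := X2) (Y := X1) (Z := X3) (A := D2) (B := D1) (C := D3) (by linarith) a c hD2 hD1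
      (by linarith) (by linarith)
  have g3 : ¬ (0 < X1 ∧ 0 < X2 ∧ X3 < 0) := fun ⟨a, b, _⟩ =>
    one_neg (X := X3) (Y := X1) (Z := X2) (A := D3) (B := D1) (C := D2) (by linarith) a b hD3 hD1
      (by linarith) (by linarith)
  have hP : 0 < X1 * X2 * X3 ∧
      (if X1 < 0 then 1 else 0) + (if X2 < 0 then 1 else 0) + (if X3 < 0 then 1 else 0) = 2 := by
    rcases lt_or_gt_of_ne h1 with a | a <;> rcases lt_or_gt_of_ne h2 with b | b <;>
      rcases lt_or_gt_of_ne h3 with c | c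
    · exact absurd ⟨a, b, c⟩ hneg
    · exact ⟨mul_pos (mul_pos_of_neg_of_neg a b) c, by simp [a, b, c.not_gt]⟩
    · exact ⟨mul_pos_of_neg_of_neg (mul_neg_of_neg_of_pos a b) c, by simp [a, c, b.not_gt]⟩
    · exact absurd ⟨a, b, c⟩ g1
    · exact ⟨mul_pos_of_neg_of_neg (mul_neg_of_pos_of_neg a b) c, by simp [b, c, a.not_gt]⟩
    · exact absurd ⟨a, b, c⟩ g2
    · exact absurd ⟨a, b, c⟩ g3
    · exact absurd ⟨a, b, c⟩ hcases
  refine ⟨hP.2, ?_⟩
  set w := X1 * (X3 + X2) * D2 + X1 * X2 * D1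
  have hw : w ^ 2 = D1 ^ 2 * (X1 * X2 * X3) := by
    have hD3' : D3 = -D1 - D2 := by linarith
    subst hD3'
    linear_combination (X1 * (X3 + X2)) * hQ - D1 ^ 2 * (X1 * X2 * X3) * hX
  obtain ⟨k, hk⟩ := (Int.pow_dvd_pow_iff two_ne_zero).1 (hw ▸ dvd_mul_right (D1 ^ 2) _)
  have hk2 : k ^ 2 = X1 * X2 * X3 := by
    have h : D1 ^ 2 * k ^ 2 = D1 ^ 2 * (X1 * X2 * X3) := by rw [← hw, hk]; ring
    exact mul_left_cancel₀ (pow_ne_zero 2 hD1) h
  exact ⟨k.natAbs, by rw [← hk2, Int.natAbs_pow, sq]⟩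

variable {G : Type u} [Group G] [Fintype G] {p : ℕ} [Fact p.Prime] {P : Sylow p G} {g : G} {m : ℕ}

/-- The value of a character at an involution is an integer. -/
theorem exists_int_involution (χ : IrrCharacter G) {t : G} (ht : orderOf t = 2) :
    ∃ z : ℤ, (χ : G → ℂ) t = (z : ℂ) := by
  obtain ⟨k, hk⟩ := exists_restrict_mult (Subgroup.zpowers t) χ 1
  refine ⟨2 * (k : ℤ) - (charDegree (χ : G → ℂ) : ℤ), ?_⟩
  have hmem : t ∈ Subgroup.zpowers t := Subgroup.mem_zpowers t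
  have huniv : (univ : Finset (Subgroup.zpowers t)) = {1, ⟨t, hmem⟩} := by
    symm
    refine eq_univ_of_card _ ?_
    rw [card_pair, ← Nat.card_eq_fintype_card, Nat.card_zpowers, ht]
    intro h
    have h' : (1 : G) = t := congrArg Subtype.val h
    rw [← h', orderOf_one] at ht
    omega
  rw [Nat.card_zpowers, ht, huniv, sum_pair] at hk
  · simp only [MonoidHom.one_apply, Units.val_one, map_one, mul_one, OneMemClass.coe_one,
      (irr_one χ).1] at hk
    push_cast at hk ⊢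
    linear_combination -hk
  · intro h
    have h' : (1 : G) = t := congrArg Subtype.val h
    rw [← h', orderOf_one] at ht
    omega

namespace FrobData

variable (F : FrobData P g m)
include F

theorem sum_act_shift (f : ↥(P : Subgroup G) → ℂ) (u : (P : Subgroup G)) (l : ℕ) :
    ∑ k ∈ range m, f (F.act (l + k) u) = ∑ k ∈ range m, f (F.act k u) := by
  induction l with
  | zero => simp
  | succ l ih =>
    rw [← ih]
    have h1 := sum_range_succ' (fun k => f (F.act (l + k) u)) m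
    have h2 := sum_range_succ (fun k => f (F.act (l + k) u)) m
    rw [h2, show f (F.act (l + m) u) = f (F.act (l + 0) u) by
      rw [F.act_add, show F.act m u = u by simpa using F.act_mul_period 1 u, add_zero]] at h1
    rw [add_right_cancel h1]
    exact sum_congr rfl fun k _ => by rw [show l + 1 + k = l + (k + 1) by omega]

variable {M : Ideal AlgInt} [M.IsPrime] {Y : Finset (principalBlock M G)}
  {rep : principalBlock M G → ((P : Subgroup G) →* ℂˣ)}

/-- The orbits exhaust the nonprincipal linear characters. -/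
theorem sum_orbits (hne : ∀ y ∈ Y, rep y ≠ 1)
    (horb : ∀ μ : (P : Subgroup G) →* ℂˣ, μ ≠ 1 →
      ∃! y, y ∈ Y ∧ ∃ l < m, μ = (rep y).comp (F.act l))
    (f : ((P : Subgroup G) →* ℂˣ) → ℂ) :
    ∑ y ∈ Y, ∑ l ∈ range m, f ((rep y).comp (F.act l)) =
      ∑ μ ∈ univ.filter (fun μ : (P : Subgroup G) →* ℂˣ => μ ≠ 1), f μ := by
  rw [← sum_product']
  refine sum_bij (fun yl _ => (rep yl.1).comp (F.act yl.2)) ?_ ?_ ?_ (fun _ _ => rfl)
  · rintro ⟨y, l⟩ hyl
    exact mem_filter.2 ⟨mem_univ _, F.comp_act_ne_one (hne y (mem_product.1 hyl).1) l⟩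
  · rintro ⟨y, l⟩ hyl ⟨y', l'⟩ hyl' he
    obtain ⟨hy, hl⟩ := mem_product.1 hyl
    obtain ⟨hy', hl'⟩ := mem_product.1 hyl'
    have hyy : y = y' := (horb _ (F.comp_act_ne_one (hne y hy) l)).unique
      ⟨hy, l, mem_range.1 hl, rfl⟩ ⟨hy', l', mem_range.1 hl', he⟩
    subst hyy
    exact Prod.ext rfl (F.dual_injOn (hne y hy) hl hl' he)
  · intro μ hμ
    obtain ⟨y, ⟨hy, l, hl, he⟩, -⟩ := horb μ (mem_filter.1 hμ).2
    exact ⟨(y, l), mem_product.2 ⟨hy, mem_range.2 hl⟩, he.symm⟩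

theorem sum_orbits_apply (hne : ∀ y ∈ Y, rep y ≠ 1)
    (horb : ∀ μ : (P : Subgroup G) →* ℂˣ, μ ≠ 1 →
      ∃! y, y ∈ Y ∧ ∃ l < m, μ = (rep y).comp (F.act l))
    (u : (P : Subgroup G)) :
    ∑ y ∈ Y, ∑ l ∈ range m, (rep y (F.act l u) : ℂ) =
      (if u = 1 then (Nat.card (P : Subgroup G) : ℂ) else 0) - 1 := by
  have h := F.sum_orbits hne horb (fun μ => (μ u : ℂ))
  simp only [MonoidHom.comp_apply] at h
  rw [h, filter_ne' univ (1 : (P : Subgroup G) →* ℂˣ), sum_erase_eq_sub (mem_univ _),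
    sum_dual F.comm', Nat.card_eq_fintype_card, MonoidHom.one_apply, Units.val_one]
  congr

/-- **No product of two conjugates of an involution lies in a section.** -/
theorem pairs_empty (hM : IsPModular p M) (hm : m = 3) {u : (P : Subgroup G)} {t : G}
    (ht : t * t = 1)
    (hu : (u : G) * (u : G) ≠ 1 ∨
      (p = 2 ∧ ∃ t₀ : (P : Subgroup G), IsConj t (t₀ : G) ∧
        ∀ i j : ℕ, u ≠ F.act i t₀ * F.act j t₀))
    (hu1 : u ≠ 1) :
    ((univ.filter (IsConj t)) ×ˢ (univ.filter (IsConj t))).filter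
        (fun vw : G × G => vw.1 * vw.2 ∈ section' p (u : G)) = ∅ := by
  obtain ⟨k, hk⟩ := F.exists_orderOf u.2
  refine filter_eq_empty_iff.2 ?_
  rintro ⟨v, w⟩ hvw hsec
  obtain ⟨hv, hw⟩ := mem_product.1 hvw
  obtain ⟨c, s, hs, hc⟩ := hsec
  simp only at hc
  obtain ⟨v', hv'def⟩ : ∃ x, x = c⁻¹ * v * c := ⟨_, rfl⟩
  obtain ⟨w', hw'def⟩ : ∃ x, x = c⁻¹ * w * c := ⟨_, rfl⟩
  have hv' : IsConj t v' := (mem_filter.1 hv).2.trans (isConj_iff.2 ⟨c⁻¹, by simp [hv'def]⟩)
  have hw' : IsConj t w' := (mem_filter.1 hw).2.trans (isConj_iff.2 ⟨c⁻¹, by simp [hw'def]⟩)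
  have hsq : ∀ {x : G}, IsConj t x → x * x = 1 := fun {x} hx => by
    obtain ⟨d, rfl⟩ := isConj_iff.1 hx
    calc d * t * d⁻¹ * (d * t * d⁻¹) = d * (t * t) * d⁻¹ := by group
      _ = 1 := by rw [ht]; group
  have hvv := hsq hv'
  have hww := hsq hw'
  have hus : v' * w' = (u : G) * (s : G) := by
    calc v' * w' = c⁻¹ * (v * w) * c := by rw [hv'def, hw'def]; group
      _ = _ := by rw [← hc]; group
  have hvi : v'⁻¹ = v' := inv_eq_of_mul_eq_one_right hvv
  have hinv : v' * ((u : G) * (s : G)) * v'⁻¹ = ((u : G) * (s : G))⁻¹ := by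
    rw [← hus, _root_.mul_inv_rev, hvi, inv_eq_of_mul_eq_one_right hww]
    calc v' * (v' * w') * v' = v' * v' * w' * v' := by group
      _ = w' * v' := by rw [hvv, one_mul]
  have hcm : Commute (u : G) (s : G) := (Subgroup.mem_centralizer_singleton_iff.1 s.2).symm
  have hsr : ¬ p ∣ orderOf (s : G) := by
    rw [Subgroup.orderOf_coe]; exact not_dvd_orderOf hM.1 hs
  have huinv : v' * (u : G) * v'⁻¹ = (u : G)⁻¹ := by
    refine (pPart_unique hM.1 (g := ((u : G) * (s : G))⁻¹) (x := (u : G)⁻¹)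
      ⟨(s : G)⁻¹, by rw [← _root_.mul_inv_rev, hcm.eq], hcm.inv_inv,
        ⟨k, by rwa [orderOf_inv]⟩, by rwa [orderOf_inv]⟩
      (x' := v' * (u : G) * v'⁻¹) (y' := v' * (s : G) * v'⁻¹) (n := k) (m := orderOf (s : G))
      ?_ ?_ ?_ hsr ?_).symm
    · rw [← hinv]; group
    · exact hcm.map (MulAut.conj v')
    · rw [conj_pow, ← hk, pow_orderOf_eq_one, mul_one, mul_inv_cancel]
    · rw [conj_pow, pow_orderOf_eq_one, mul_one, mul_inv_cancel]
  have huu : (u : G) * (u : G) = 1 := by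
    obtain ⟨l, hl, he⟩ := F.exists_act (u := u) (v := u⁻¹) (isConj_iff.2 ⟨v', huinv⟩)
    have h2 : F.act (l + l) u = u := by rw [F.act_add, ← he, map_inv, ← he, inv_inv]
    have h3 := F.free hu1 h2
    subst hm
    have hl0 : l = 0 := by omega
    subst hl0
    rw [F.act_zero] at he
    have he' : (u : G)⁻¹ = u := congrArg Subtype.val he
    exact mul_eq_one_iff_eq_inv.2 he'.symm
  rcases hu with hu | ⟨hp2, t₀, ht₀, hu⟩
  · exact hu huu
  subst hp2
  have hu' : (u : G) ≠ 1 := fun h => hu1 (Subtype.ext h)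
  have hvC : v' ∈ Subgroup.centralizer ({(u : G)} : Set G) := by
    refine Subgroup.mem_centralizer_singleton_iff.2 ?_
    rw [inv_eq_of_mul_eq_one_right huu] at huinv
    exact mul_inv_eq_iff_eq_mul.1 huinv
  have hwC : w' ∈ Subgroup.centralizer ({(u : G)} : Set G) := by
    have : w' = v' * ((u : G) * (s : G)) := by rw [← hus, ← mul_assoc, hvv, one_mul]
    rw [this]
    exact mul_mem hvC (mul_mem (Subgroup.mem_centralizer_singleton_iff.2 rfl) s.2)
  obtain ⟨a, ha, hcard⟩ := F.exists_index_core u.2 hu'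
  haveI := CfsgLib.Solvable.pPrimeCore_normal (G := ↥(Subgroup.centralizer ({(u : G)} : Set G))) 2
  have hPC := F.le_centralizer_singleton u.2
  set q : ↥(Subgroup.centralizer ({(u : G)} : Set G)) →* ↥(Subgroup.centralizer ({(u : G)} : Set G)) ⧸ core 2 (u : G) := QuotientGroup.mk' _
  set f : (P : Subgroup G) →* ↥(Subgroup.centralizer ({(u : G)} : Set G)) ⧸ core 2 (u : G) := q.comp (Subgroup.inclusion hPC) with hf
  have hinj : Function.Injective f := by
    rw [injective_iff_map_eq_one]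
    intro x hx
    have h1 : Subgroup.inclusion hPC x ∈ core 2 (u : G) := (QuotientGroup.eq_one_iff _).1 hx
    obtain ⟨j, hj⟩ := IsPGroup.iff_orderOf.1 P.2 x
    have h2 : ¬ 2 ∣ orderOf x := by
      have := not_dvd_orderOf hM.1 h1
      rwa [orderOf_injective (Subgroup.inclusion hPC) (Subgroup.inclusion_injective _)] at this
    rcases Nat.eq_zero_or_pos j with h | h
    · rw [h, pow_zero, orderOf_eq_one_iff] at hj; exact hj
    · exact absurd (hj ▸ dvd_pow_self 2 h.ne') h2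
  have hbij : Function.Bijective f := by
    haveI := Fintype.ofFinite (↥(Subgroup.centralizer ({(u : G)} : Set G)) ⧸ core 2 (u : G))
    refine (Fintype.bijective_iff_injective_and_card f).2 ⟨hinj, ?_⟩
    rw [← Nat.card_eq_fintype_card, ← Nat.card_eq_fintype_card, hcard, ← ha, Subgroup.index]
  have hcommQ : ∀ a b : ↥(Subgroup.centralizer ({(u : G)} : Set G)) ⧸ core 2 (u : G), a * b = b * a := fun a b => by
    obtain ⟨a', rfl⟩ := hbij.2 a
    obtain ⟨b', rfl⟩ := hbij.2 b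
    rw [← map_mul, ← map_mul, F.comm']
  have himg : ∀ {x : G}, IsConj t x → ∀ hx : x ∈ Subgroup.centralizer ({(u : G)} : Set G), ∃ i : ℕ,
      q ⟨x, hx⟩ = f (F.act i t₀) := by
    intro x hxt hx
    obtain ⟨R, hR⟩ := (IsPGroup.of_card (p := 2) (G := Subgroup.zpowers (⟨x, hx⟩ : ↥(Subgroup.centralizer ({(u : G)} : Set G))))
      (n := if x = 1 then 0 else 1) (by
        rw [Nat.card_zpowers, ← Subgroup.orderOf_coe]
        split_ifs with h1
        · simp [h1]
        · rw [pow_one]; exact orderOf_eq_prime (by rw [sq]; exact hsq hxt) h1)).exists_le_sylow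
    obtain ⟨d, hd⟩ := MulAction.exists_smul_eq ↥(Subgroup.centralizer ({(u : G)} : Set G)) R (P.subtype hPC)
    have hmem : d * (⟨x, hx⟩ : ↥(Subgroup.centralizer ({(u : G)} : Set G))) * d⁻¹ ∈
        ((P.subtype hPC : Sylow 2 ↥(Subgroup.centralizer ({(u : G)} : Set G))) : Subgroup ↥(Subgroup.centralizer ({(u : G)} : Set G))) := by
      rw [← hd]; exact ⟨⟨x, hx⟩, hR (Subgroup.mem_zpowers _), rfl⟩
    set x₁ : (P : Subgroup G) := ⟨((d * (⟨x, hx⟩ : ↥(Subgroup.centralizer ({(u : G)} : Set G))) * d⁻¹ : ↥(Subgroup.centralizer ({(u : G)} : Set G))) : G), hmem⟩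
    obtain ⟨i, -, hi⟩ := F.exists_act (u := t₀) (v := x₁)
      (ht₀.symm.trans (hxt.trans (isConj_iff.2 ⟨(d : G), by simp [x₁]⟩)))
    refine ⟨i, ?_⟩
    rw [← hi, hf, MonoidHom.comp_apply,
      show Subgroup.inclusion hPC x₁ = d * (⟨x, hx⟩ : ↥(Subgroup.centralizer ({(u : G)} : Set G))) * d⁻¹ from Subtype.ext rfl, map_mul,
      map_mul, hcommQ (q d), mul_assoc, ← map_mul, mul_inv_cancel, map_one, mul_one]
  obtain ⟨i, hi⟩ := himg hv' hvC
  obtain ⟨j, hj⟩ := himg hw' hwC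
  refine hu i j (hinj ?_)
  rw [map_mul, ← hi, ← hj, hf, MonoidHom.comp_apply, ← map_mul]
  refine QuotientGroup.eq.2 ?_
  have : (Subgroup.inclusion hPC u)⁻¹ * (⟨v', hvC⟩ * ⟨w', hwC⟩ : ↥(Subgroup.centralizer ({(u : G)} : Set G))) = s := Subtype.ext (by
    show (u : G)⁻¹ * (v' * w') = s
    rw [hus, inv_mul_cancel_left])
  rw [this]
  exact hs

variable [Fintype (IrrCharacter G)] [Fintype (principalBlock M G)]

/-- **The normalized structure.** -/
theorem exists_structure_three (hM : IsPModular p M) (hm : m = 3)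
    (hN : 3 + 1 < Nat.card (P : Subgroup G)) {one : principalBlock M G}
    (hone : ∀ x : G, ((one : IrrCharacter G) : G → ℂ) x = 1) :
    ∃ (Y : Finset (principalBlock M G)) (rep : principalBlock M G → ((P : Subgroup G) →* ℂˣ))
      (δ : ℤ) (S : principalBlock M G → ℤ),
      (δ = 1 ∨ δ = -1) ∧ one ∉ Y ∧ S one = -1 ∧ Yᶜ.card = 3 ∧
      3 * Y.card + 1 = Nat.card (P : Subgroup G) ∧
      (∀ y ∈ Y, rep y ≠ 1 ∧ ∀ u : (P : Subgroup G), u ≠ 1 →
        ((y : IrrCharacter G) : G → ℂ) (u : G) =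
          (δ : ℂ) * ∑ l ∈ range m, (rep y (F.act l u) : ℂ)) ∧
      (∀ x, x ∉ Y → (S x = 1 ∨ S x = -1) ∧ ∀ u : (P : Subgroup G), u ≠ 1 →
        ((x : IrrCharacter G) : G → ℂ) (u : G) = -(S x : ℂ)) ∧
      (∀ μ : (P : Subgroup G) →* ℂˣ, μ ≠ 1 → ∃! y, y ∈ Y ∧ ∃ l < m, μ = (rep y).comp (F.act l)) ∧
      ∀ y ∈ Y, ∀ x : G, ¬ p ∣ orderOf x →
        (δ : ℂ) * ((y : IrrCharacter G) : G → ℂ) x +
          ∑ z ∈ Yᶜ, (S z : ℂ) * ((z : IrrCharacter G) : G → ℂ) x = 0 := by
  subst hm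
  obtain ⟨Y, rep, c, δ, S, hδ, honeY, hS1, hcard, hY, hX, horb, hnorm, hreg⟩ :=
    F.exists_structure hM hN hone
  have hY2 : 2 ≤ Y.card := by omega
  have hsq : ∀ x ∈ Yᶜ, 1 ≤ S x ^ 2 := fun x hx => by
    have := (hX x (mem_compl.1 hx)).1
    have : 0 < S x ^ 2 := by positivity
    omega
  have hone' : one ∈ Yᶜ := mem_compl.2 honeY
  have hsum1 : (1 : ℤ) ≤ ∑ x ∈ Yᶜ, S x ^ 2 :=
    (hsq one hone').trans (single_le_sum (fun x hx => (zero_le_one.trans (hsq x hx))) hone')
  have hlast : ∀ {k : ℤ}, ∑ x ∈ Yᶜ, S x ^ 2 = k → k ≤ 3 →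
      (Yᶜ.card : ℤ) = k ∧ ∀ x, x ∉ Y → S x = 1 ∨ S x = -1 := by
    intro k hk hk3
    have hall : ∀ x ∈ Yᶜ, S x ^ 2 = 1 := by
      intro x hx
      have hle : S x ^ 2 ≤ k := hk ▸ single_le_sum (fun z hz => (zero_le_one.trans (hsq z hz))) hx
      have h1 : -1 ≤ S x := by nlinarith
      have h2 : S x ≤ 1 := by nlinarith
      have := hsq x hx
      interval_cases h : S x <;> norm_num at *
    refine ⟨?_, fun x hx => sq_eq_one_iff.1 (hall x (mem_compl.2 hx))⟩
    rw [← hk, sum_congr rfl hall, sum_const, nsmul_eq_mul, mul_one]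
  by_cases hc : c = 0
  · subst hc
    have hk : ∑ x ∈ Yᶜ, S x ^ 2 = 3 := by
      rcases hδ with e | e <;> rw [e] at hnorm <;> push_cast at hnorm <;> linarith
    obtain ⟨h3, hpm⟩ := hlast hk le_rfl
    refine ⟨Y, rep, δ, S, hδ, honeY, hS1, by exact_mod_cast h3, hcard, fun y hy => ?_,
      fun x hx => ⟨hpm x hx, (hX x hx).2⟩, horb, fun y hy x hx => ?_⟩
    · refine ⟨(hY y hy).1, fun u hu => ?_⟩
      rw [(hY y hy).2 u hu, Int.cast_zero, neg_zero, zero_add]
    · have := hreg y hy x hx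
      rwa [Int.cast_zero, zero_mul, zero_add] at this
  -- the members of the exceptional set can be exchanged
  have hcd : c = -δ := by
    have hY2' : (2 : ℤ) ≤ (Y.card : ℤ) := by exact_mod_cast hY2
    have h1 : 1 ≤ c ^ 2 := by have : 0 < c ^ 2 := (by positivity); omega
    push_cast at hnorm
    have hub : c ≤ 1 := by nlinarith
    have hlb : -1 ≤ c := by nlinarith
    rcases hδ with e | e <;> subst e <;> interval_cases c <;>
      first | omega | (exfalso; nlinarith)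
  subst hcd
  have hk : ∑ x ∈ Yᶜ, S x ^ 2 = 5 - (Y.card : ℤ) := by
    rcases hδ with e | e <;> subst e <;> push_cast at hnorm <;> linarith
  have hY4 : Y.card ≤ 4 := by omega
  obtain ⟨hcount, hpm⟩ := hlast hk (by omega)
  have hY2eq : Y.card = 2 := by
    obtain ⟨a, ha⟩ := IsPGroup.iff_card.1 P.2
    rcases (show Y.card = 2 ∨ Y.card = 3 ∨ Y.card = 4 by omega) with h | h | h
    · exact h
    · exfalso
      rw [h, ha] at hcard
      have hp10 : p ∣ 10 := by
        refine (show 3 * 3 + 1 = 10 from rfl) ▸ hcard ▸ dvd_pow_self p fun h0 => ?_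
        rw [h0, pow_zero] at hcard
        omega
      have hle : p ≤ 10 := Nat.le_of_dvd (by norm_num) hp10
      have hpp : p.Prime := Fact.out
      interval_cases p <;> first | (norm_num at hp10; done) | (norm_num at hpp; done) | skip
      · have hale : a ≤ 4 := by
          by_contra hh
          have := Nat.pow_le_pow_right (show 1 ≤ 2 by norm_num) (show 5 ≤ a by omega)
          omega
        interval_cases a <;> omega
      · have hale : a ≤ 1 := by
          by_contra hh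
          have := Nat.pow_le_pow_right (show 1 ≤ 5 by norm_num) (show 2 ≤ a by omega)
          omega
        interval_cases a <;> omega
    · exfalso
      have h1 : Yᶜ.card = 1 := by omega
      obtain ⟨z, hz⟩ := card_eq_one.1 h1
      obtain rfl : one = z := by simpa [hz] using hone'
      obtain ⟨y, hy⟩ := card_pos.1 (show 0 < Y.card by omega)
      have h2 := hreg y hy 1 (by rw [orderOf_one]; exact hM.1.not_dvd_one)
      rw [hz, sum_singleton, hS1, hone] at h2
      have hall : ∀ z ∈ Y, ((z : IrrCharacter G) : G → ℂ) 1 = ((y : IrrCharacter G) : G → ℂ) 1 := by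
        intro z' hz'
        have e := hreg z' hz' 1 (by rw [orderOf_one]; exact hM.1.not_dvd_one)
        rw [hz, sum_singleton, hS1, hone] at e
        refine mul_left_cancel₀ (show (δ : ℂ) ≠ 0 by rcases hδ with e | e <;> simp [e]) ?_
        linear_combination e - h2
      rw [sum_congr rfl hall, sum_const, h, (irr_one y.1).1, nsmul_eq_mul] at h2
      have h3 : -δ * (4 * (charDegree ((y : IrrCharacter G) : G → ℂ) : ℤ)) +
          δ * (charDegree ((y : IrrCharacter G) : G → ℂ) : ℤ) + -1 * 1 = 0 := by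
        exact_mod_cast h2
      rcases hδ with e | e <;> subst e <;> omega
  obtain ⟨y₁, y₂, hne, hYeq⟩ := card_eq_two.1 hY2eq
  set σ : Equiv.Perm (principalBlock M G) := Equiv.swap y₁ y₂
  have hσY : ∀ y, y ∈ Y ↔ σ y ∈ Y := fun y => by
    simp only [hYeq, mem_insert, mem_singleton, σ]
    constructor
    · rintro (rfl | rfl) <;> simp [Equiv.swap_apply_left, Equiv.swap_apply_right]
    · intro h
      by_cases h1 : y = y₁
      · exact Or.inl h1
      by_cases h2 : y = y₂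
      · exact Or.inr h2
      rwa [Equiv.swap_apply_of_ne_of_ne h1 h2] at h
  have hpair : ∀ y ∈ Y, ∀ f : principalBlock M G → ℂ, ∑ z ∈ Y, f z = f y + f (σ y) := by
    intro y hy f
    rw [hYeq, sum_pair hne]
    rw [hYeq, mem_insert, mem_singleton] at hy
    rcases hy with rfl | rfl <;> simp [σ, add_comm]
  refine ⟨Y, fun y => rep (σ y), -δ, S, by rcases hδ with e | e <;> simp [e], honeY, hS1,
    ?_, hcard, fun y hy => ?_, fun x hx => ⟨hpm x hx, (hX x hx).2⟩, fun μ hμ => ?_,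
    fun y hy x hx => ?_⟩
  · rw [hY2eq] at hcount
    norm_num at hcount
    exact_mod_cast hcount
  · refine ⟨(hY _ ((hσY y).1 hy)).1, fun u hu => ?_⟩
    have h := F.sum_orbits_apply (fun z hz => (hY z hz).1) horb u
    rw [if_neg hu, hpair y hy (fun z => ∑ l ∈ range 3, (rep z (F.act l u) : ℂ))] at h
    rw [(hY y hy).2 u hu]
    push_cast
    linear_combination (δ : ℂ) * h
  · obtain ⟨y, ⟨hy, l, hl, he⟩, huniq⟩ := horb μ hμ
    refine ⟨σ y, ⟨(hσY y).1 hy, l, hl, ?_⟩, ?_⟩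
    · simp only [σ, Equiv.swap_apply_self]; exact he
    · rintro z ⟨hz, l', hl', he'⟩
      rw [← huniq (σ z) ⟨(hσY z).1 hz, l', hl', he'⟩]
      simp [σ]
  · have h1 := hreg (σ y) ((hσY y).1 hy) x hx
    rw [hpair y hy (fun z => ((z : IrrCharacter G) : G → ℂ) x)] at h1
    push_cast at h1 ⊢
    linear_combination h1

/-- An involution lying in no proper normal subgroup is in no kernel. -/
theorem apply_ne_degree {χ : IrrCharacter G} (hχ : (χ : G → ℂ) ≠ fun _ => 1) {t : G}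
    (hgen : ∀ K : Subgroup G, K.Normal → t ∈ K → K = ⊤) :
    (χ : G → ℂ) t ≠ (χ : G → ℂ) 1 := by
  intro h
  have htop := hgen _ (CfsgLib.Char.kerSubgroup_normal (isCharacter_irr χ))
    ((CfsgLib.Char.mem_kerSubgroup (isCharacter_irr χ) t).2 h)
  have hc : ∀ x : G, (χ : G → ℂ) x = (charDegree (χ : G → ℂ) : ℂ) := fun x =>
    ((CfsgLib.Char.mem_kerSubgroup (isCharacter_irr χ) x).1 (htop ▸ Subgroup.mem_top x)).trans
      (irr_one χ).1
  have hn := CfsgLib.Char.IsIrrCharacter.classInner_self χ.2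
  rw [classInner, sum_congr rfl fun x _ => by rw [hc x, Complex.conj_natCast], sum_const,
    card_univ, nsmul_eq_mul, ← Nat.card_eq_fintype_card,
    inv_mul_cancel_left₀ (Nat.cast_ne_zero.2 Nat.card_pos.ne')] at hn
  have hd : charDegree (χ : G → ℂ) * charDegree (χ : G → ℂ) = 1 := by exact_mod_cast hn
  exact hχ (funext fun x => by rw [hc, (mul_eq_one.1 hd).1, Nat.cast_one])

/-- **The signs and the square with an involution generating normally.** -/
theorem involution_signs (hM : IsPModular p M) (hm : m = 3)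
    (hN : 3 + 1 < Nat.card (P : Subgroup G)) {one a b : principalBlock M G}
    (hone : ∀ x : G, ((one : IrrCharacter G) : G → ℂ) x = 1)
    {rep : principalBlock M G → ((P : Subgroup G) →* ℂˣ)} {δ : ℤ} {S : principalBlock M G → ℤ}
    (hδ : δ = 1 ∨ δ = -1) (hS1 : S one = -1) (hab : a ≠ b) (hao : a ≠ one) (hbo : b ≠ one)
    (hYc : Yᶜ = {one, a, b})
    (hY : ∀ y ∈ Y, rep y ≠ 1 ∧ ∀ u : (P : Subgroup G), u ≠ 1 →
      ((y : IrrCharacter G) : G → ℂ) (u : G) = (δ : ℂ) * ∑ l ∈ range m, (rep y (F.act l u) : ℂ))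
    (hX : ∀ x, x ∉ Y → (S x = 1 ∨ S x = -1) ∧ ∀ u : (P : Subgroup G), u ≠ 1 →
      ((x : IrrCharacter G) : G → ℂ) (u : G) = -(S x : ℂ))
    (horb : ∀ μ : (P : Subgroup G) →* ℂˣ, μ ≠ 1 →
      ∃! y, y ∈ Y ∧ ∃ l < m, μ = (rep y).comp (F.act l))
    (hreg : ∀ y ∈ Y, ∀ x : G, ¬ p ∣ orderOf x →
      (δ : ℂ) * ((y : IrrCharacter G) : G → ℂ) x +
        ∑ z ∈ Yᶜ, (S z : ℂ) * ((z : IrrCharacter G) : G → ℂ) x = 0)
    {t : G} (ht : orderOf t = 2) (hgen : ∀ K : Subgroup G, K.Normal → t ∈ K → K = ⊤)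
    {y₀ : principalBlock M G} (hy₀ : y₀ ∈ Y) :
    (if δ = 1 then 1 else 0) + (if S a = 1 then 1 else 0) + (if S b = 1 then 1 else 0) = 2 ∧
      IsSquare (charDegree ((y₀ : IrrCharacter G) : G → ℂ) *
        (charDegree ((a : IrrCharacter G) : G → ℂ) * charDegree ((b : IrrCharacter G) : G → ℂ))) := by
  subst hm
  have hp : p.Prime := Fact.out
  have hnm : ∀ z ∈ ({one, a, b} : Finset (principalBlock M G)), z ∉ Y := fun z hz =>
    mem_compl.1 (hYc ▸ hz)
  have haY : a ∉ Y := hnm a (by simp)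
  have hbY : b ∉ Y := hnm b (by simp)
  have hsum3 : ∀ f : principalBlock M G → ℂ, ∑ z ∈ Yᶜ, f z = f one + f a + f b := fun f => by
    rw [hYc, sum_insert (by simp [hao.symm, hbo.symm]), sum_pair hab]; ring
  obtain ⟨ea, hea⟩ : ∃ e, e = S a := ⟨_, rfl⟩
  obtain ⟨eb, heb⟩ : ∃ e, e = S b := ⟨_, rfl⟩
  have hea1 : ea = 1 ∨ ea = -1 := hea ▸ (hX a haY).1
  have heb1 : eb = 1 ∨ eb = -1 := heb ▸ (hX b hbY).1
  set f := charDegree ((y₀ : IrrCharacter G) : G → ℂ)
  set xa := charDegree ((a : IrrCharacter G) : G → ℂ)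
  set xb := charDegree ((b : IrrCharacter G) : G → ℂ)
  have hf0 : 0 < f := (irr_one y₀.1).2
  have hxa0 : 0 < xa := (irr_one a.1).2
  have hxb0 : 0 < xb := (irr_one b.1).2
  have hxaC : ((a : IrrCharacter G) : G → ℂ) 1 = (xa : ℂ) := (irr_one a.1).1
  have hxbC : ((b : IrrCharacter G) : G → ℂ) 1 = (xb : ℂ) := (irr_one b.1).1
  have h1reg : ¬ p ∣ orderOf (1 : G) := by rw [orderOf_one]; exact hp.not_dvd_one
  have hagree : ∀ y ∈ Y, ∀ x : G, ¬ p ∣ orderOf x →
      ((y : IrrCharacter G) : G → ℂ) x = ((y₀ : IrrCharacter G) : G → ℂ) x := fun y hy x hx =>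
    mul_left_cancel₀ (show (δ : ℂ) ≠ 0 by rcases hδ with e | e <;> simp [e])
      (by linear_combination hreg y hy x hx - hreg y₀ hy₀ x hx)
  have hfC : ∀ y ∈ Y, ((y : IrrCharacter G) : G → ℂ) 1 = (f : ℂ) := fun y hy =>
    (hagree y hy 1 h1reg).trans (irr_one y₀.1).1
  -- the degrees
  have hA : δ * (f : ℤ) + -1 + ea * (xa : ℤ) + eb * (xb : ℤ) = 0 := by
    have h := hreg y₀ hy₀ 1 h1reg
    rw [hsum3, hfC y₀ hy₀, hS1, hone, hxaC, hxbC, ← hea, ← heb] at h
    have h' : δ * (f : ℤ) + ((-1) * 1 + ea * (xa : ℤ) + eb * (xb : ℤ)) = 0 := by exact_mod_cast h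
    linarith
  have htt : t * t = 1 := by rw [← sq, ← ht, pow_orderOf_eq_one]
  -- the moment at an element of the Sylow subgroup
  have hC : ∀ u : (P : Subgroup G), u ≠ 1 →
      ((univ.filter (IsConj t)) ×ˢ (univ.filter (IsConj t))).filter
        (fun vw : G × G => vw.1 * vw.2 ∈ section' p (u : G)) = ∅ →
      (1 : ℂ) + -(ea : ℂ) * ((a : IrrCharacter G) : G → ℂ) t ^ 2 / (xa : ℂ) +
        -(eb : ℂ) * ((b : IrrCharacter G) : G → ℂ) t ^ 2 / (xb : ℂ) +
        (∑ y ∈ Y, (δ : ℂ) * conj (∑ l ∈ range 3, (rep y (F.act l u) : ℂ)) *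
          ((y : IrrCharacter G) : G → ℂ) t ^ 2) / (f : ℂ) = 0 := by
    intro u hu hempty
    obtain ⟨k, hk⟩ := F.exists_orderOf u.2
    obtain ⟨n, hn, -⟩ := F.exists_index_core u.2 fun h => hu (Subtype.ext h)
    have h := card_pairs hM hk hn t t
    rw [hempty, card_empty, Nat.cast_zero, zero_mul] at h
    have hcl : ((univ.filter (IsConj t)).card : ℂ) ≠ 0 :=
      Nat.cast_ne_zero.2 (card_pos.2 ⟨t, mem_filter.2 ⟨mem_univ _, IsConj.refl t⟩⟩).ne'
    have h' := (mul_eq_zero.1 h.symm).resolve_left (mul_ne_zero hcl hcl)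
    rw [sum_subtype (univ.filter (· ∈ principalBlock M G)) (p := (· ∈ principalBlock M G)) (by simp)
      (fun χ => conj ((χ : G → ℂ) (u : G)) * (χ : G → ℂ) t * (χ : G → ℂ) t / (χ : G → ℂ) 1),
      ← sum_add_sum_compl Y, hsum3, hone, hone, hone, (hX a haY).2 u hu, (hX b hbY).2 u hu,
      hxaC, hxbC, ← hea, ← heb, map_one, map_neg, map_neg, map_intCast, map_intCast] at h'
    rw [sum_div]
    rw [sum_congr rfl (g := fun y => (δ : ℂ) * conj (∑ l ∈ range 3, (rep y (F.act l u) : ℂ)) *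
      ((y : IrrCharacter G) : G → ℂ) t ^ 2 / (f : ℂ)) fun y hy => by
        rw [(hY y hy).2 u hu, map_mul, map_intCast, hfC y hy]; ring] at h'
    linear_combination h'
  by_cases hp2 : p = 2
  · -- characteristic two is impossible
    exfalso
    subst hp2
    obtain ⟨R, hR⟩ := (IsPGroup.of_card (p := 2) (G := Subgroup.zpowers t) (n := 1)
      (by rw [Nat.card_zpowers, ht, pow_one])).exists_le_sylow
    obtain ⟨c, hc⟩ := MulAction.exists_smul_eq G R P
    have hmem : c * t * c⁻¹ ∈ (P : Subgroup G) := by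
      show c * t * c⁻¹ ∈ (P : Subgroup G)
      rw [← hc]; exact ⟨t, hR (Subgroup.mem_zpowers t), rfl⟩
    set t₀ : (P : Subgroup G) := ⟨c * t * c⁻¹, hmem⟩
    have htc : IsConj t (t₀ : G) := isConj_iff.2 ⟨c, rfl⟩
    have ht₀ : t₀ ≠ 1 := fun h => by
      have h' : c * t * c⁻¹ = 1 := congrArg Subtype.val h
      rw [conj_eq_one_iff] at h'
      rw [h', orderOf_one] at ht
      omega
    obtain ⟨k, hk⟩ := IsPGroup.iff_card.1 P.2
    have hY3 : 3 * Y.card + 1 = Nat.card (P : Subgroup G) := by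
      have h := F.sum_orbits_apply (fun y hy => (hY y hy).1) horb (1 : (P : Subgroup G))
      simp only [map_one, Units.val_one, sum_const, card_range, nsmul_eq_mul, mul_one, if_true] at h
      have h' : ((3 * Y.card + 1 : ℕ) : ℂ) = ((Nat.card (P : Subgroup G) : ℕ) : ℂ) := by
        push_cast at h ⊢; linear_combination h
      exact_mod_cast h'
    have hN16 : 16 ≤ Nat.card (P : Subgroup G) := by
      have hQk : Nat.card (P : Subgroup G) = 2 ^ k := hk
      rcases Nat.lt_or_ge k 4 with hk4 | hk4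
      · interval_cases k <;> omega
      · rw [hQk]
        exact le_trans (by norm_num) (Nat.pow_le_pow_right (show 1 ≤ 2 by norm_num) hk4)
    -- an element outside the products of two conjugates
    set TT := (range 3 ×ˢ range 3).image fun ij : ℕ × ℕ => F.act ij.1 t₀ * F.act ij.2 t₀
    have hTT : TT.card ≤ 9 := card_image_le.trans (le_of_eq (by simp))
    obtain ⟨u, -, hu⟩ : ∃ u ∈ (univ : Finset (P : Subgroup G)), u ∉ insert 1 TT :=
      exists_mem_notMem_of_card_lt_card ((card_insert_le _ _).trans_lt (by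
        rw [card_univ, ← Nat.card_eq_fintype_card]; omega))
    rw [mem_insert, not_or] at hu
    have hiu : ∀ i j : ℕ, u ≠ F.act i t₀ * F.act j t₀ := by
      intro i j he
      refine hu.2 (mem_image.2 ⟨(i % 3, j % 3), mem_product.2 ⟨mem_range.2 (Nat.mod_lt _ (by omega)),
        mem_range.2 (Nat.mod_lt _ (by omega))⟩, ?_⟩)
      rw [he]
      simp only [← F.act_mod]
    have h := hC u hu.1 (F.pairs_empty hM rfl htt (Or.inr ⟨rfl, t₀, htc, hiu⟩) hu.1)
    have hclass : ∀ z : principalBlock M G,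
        ((z : IrrCharacter G) : G → ℂ) t = ((z : IrrCharacter G) : G → ℂ) (t₀ : G) := fun z =>
      CfsgLib.Char.IsClassFunction.apply_eq_of_isConj (isClassFunction_irr z.1) htc
    have ha2 : ((a : IrrCharacter G) : G → ℂ) t = -(ea : ℂ) := by
      rw [hclass, (hX a haY).2 t₀ ht₀, hea]
    have hb2 : ((b : IrrCharacter G) : G → ℂ) t = -(eb : ℂ) := by
      rw [hclass, (hX b hbY).2 t₀ ht₀, heb]
    have hYsum : ∑ y ∈ Y, (δ : ℂ) * conj (∑ l ∈ range 3, (rep y (F.act l u) : ℂ)) *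
        ((y : IrrCharacter G) : G → ℂ) t ^ 2 = (δ : ℂ) * (-9) := by
      have e1 : ∀ y ∈ Y, (δ : ℂ) * conj (∑ l ∈ range 3, (rep y (F.act l u) : ℂ)) *
          ((y : IrrCharacter G) : G → ℂ) t ^ 2 = (δ : ℂ) * ∑ l ∈ range 3,
          conj (((rep y).comp (F.act l)) u : ℂ) *
            (∑ i ∈ range 3, (((rep y).comp (F.act l)) (F.act i t₀) : ℂ)) ^ 2 := by
        intro y hy
        rw [hclass, (hY y hy).2 t₀ ht₀, map_sum, mul_assoc, sum_mul]
        congr 1
        refine sum_congr rfl fun l _ => ?_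
        simp only [MonoidHom.comp_apply, ← F.act_add]
        rw [F.sum_act_shift (fun w => (rep y w : ℂ)) t₀ l]
        rcases hδ with e | e <;> rw [e] <;> push_cast <;> ring
      rw [sum_congr rfl e1, ← mul_sum, F.sum_orbits (fun y hy => (hY y hy).1) horb
        (fun μ => conj (μ u : ℂ) * (∑ i ∈ range 3, (μ (F.act i t₀) : ℂ)) ^ 2)]
      congr 1
      have e2 : ∀ μ : (P : Subgroup G) →* ℂˣ,
          conj (μ u : ℂ) * (∑ i ∈ range 3, (μ (F.act i t₀) : ℂ)) ^ 2 =
            ∑ i ∈ range 3, ∑ j ∈ range 3, (μ (u⁻¹ * (F.act i t₀ * F.act j t₀)) : ℂ) := by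
        intro μ
        rw [sq, sum_mul_sum, mul_sum]
        refine sum_congr rfl fun i _ => ?_
        rw [mul_sum]
        refine sum_congr rfl fun j _ => ?_
        simp only [conj_char, MonoidHom.inv_apply, map_mul, map_inv, Units.val_mul]
      simp only [e2]
      rw [sum_comm, sum_congr rfl fun i _ => sum_comm]
      simp only [filter_ne' univ (1 : (P : Subgroup G) →* ℂˣ), sum_erase_eq_sub (mem_univ _), sum_dual F.comm',
        MonoidHom.one_apply, Units.val_one, ← map_mul]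
      rw [sum_congr rfl fun i _ => sum_congr rfl fun j _ => by
        rw [if_neg fun h => hiu i j (inv_mul_eq_one.1 h)]]
      norm_num
    rw [ha2, hb2, hYsum, neg_sq, neg_sq] at h
    -- congruences
    have hdiv : ∀ {z : principalBlock M G} (e : ℤ),
        (∑ u ∈ (univ : Finset (P : Subgroup G)).erase 1, ((z : IrrCharacter G) : G → ℂ) (u : G)) = (e : ℂ) →
        (Nat.card (P : Subgroup G) : ℤ) ∣ (charDegree ((z : IrrCharacter G) : G → ℂ) : ℤ) + e := by
      intro z e he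
      obtain ⟨j, hj⟩ := exists_restrict_mult (P : Subgroup G) z.1 1
      refine ⟨(j : ℤ), ?_⟩
      simp only [MonoidHom.one_apply, Units.val_one, map_one, mul_one] at hj
      rw [← add_sum_erase _ _ (mem_univ (1 : (P : Subgroup G))), he, OneMemClass.coe_one, (irr_one z.1).1] at hj
      exact_mod_cast hj.symm
    have hcard1 : (((univ : Finset (P : Subgroup G)).erase 1).card : ℂ) = (Nat.card (P : Subgroup G) : ℂ) - 1 := by
      rw [card_erase_of_mem (mem_univ _), card_univ, ← Nat.card_eq_fintype_card,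
        Nat.cast_sub Nat.card_pos, Nat.cast_one]
    have hcongX : ∀ z, z ∉ Y → (Nat.card (P : Subgroup G) : ℤ) ∣
        (charDegree ((z : IrrCharacter G) : G → ℂ) : ℤ) + S z := by
      intro z hz
      have h1 := hdiv (z := z) (-((Nat.card (P : Subgroup G) : ℤ) - 1) * S z) (by
        rw [sum_congr rfl fun u hu => (hX z hz).2 u (mem_erase.1 hu).1, sum_const, nsmul_eq_mul,
          hcard1]
        push_cast; ring)
      obtain ⟨r, hr⟩ := h1
      exact ⟨r + S z, by linear_combination hr⟩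
    have hcongY : (Nat.card (P : Subgroup G) : ℤ) ∣ (f : ℤ) - 3 * δ := by
      rw [sub_eq_add_neg, ← neg_mul]
      refine hdiv (z := y₀) (-3 * δ) ?_
      rw [sum_congr rfl fun u hu => (hY y₀ hy₀).2 u (mem_erase.1 hu).1, ← mul_sum, sum_comm,
        sum_congr rfl (g := fun _ => (-1 : ℂ)) fun l _ => ?_]
      · simp; ring
      rw [sum_erase_eq_sub (mem_univ _), map_one, map_one, Units.val_one]
      have h0 := sum_char ((rep y₀).comp (F.act l))
      simp only [MonoidHom.comp_apply] at h0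
      rw [h0, if_neg (F.comp_act_ne_one (hY y₀ hy₀).1 l)]
      ring
    have hlow : ∀ {z : principalBlock M G}, z ∉ Y → z ≠ one →
        15 ≤ charDegree ((z : IrrCharacter G) : G → ℂ) := by
      intro z hz hzo
      have hd : 0 < charDegree ((z : IrrCharacter G) : G → ℂ) := (irr_one z.1).2
      obtain ⟨r, hr⟩ := hcongX z hz
      rcases (hX z hz).1 with e | e <;> rw [e] at hr
      · have : 0 < r := by nlinarith
        have : (16 : ℤ) ≤ (Nat.card (P : Subgroup G) : ℤ) * r := by nlinarith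
        omega
      · rcases eq_or_ne r 0 with hr0 | hr0
        · exfalso
          rw [hr0, mul_zero] at hr
          have hne := F.apply_ne_degree (χ := z.1) (fun h' => hzo (Subtype.ext (Subtype.ext (by
            rw [h']; exact (funext hone).symm)))) hgen
          rw [hclass, (hX z hz).2 t₀ ht₀, e, (irr_one z.1).1] at hne
          refine hne ?_
          have : charDegree ((z : IrrCharacter G) : G → ℂ) = 1 := by omega
          simp [this]
        · have : 0 < r := by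
            by_contra hh
            have : r ≤ -1 := by omega
            nlinarith
          have : (16 : ℤ) ≤ (Nat.card (P : Subgroup G) : ℤ) * r := by nlinarith
          omega
    have hxa15 := hlow haY hao
    have hxb15 := hlow hbY hbo
    have h9 : (ea : ℂ) * xb * f + (eb : ℂ) * xa * f + 9 * (δ : ℂ) * xa * xb = (xa : ℂ) * xb * f := by
      have hea2 : (ea : ℂ) ^ 2 = 1 := by rcases hea1 with e | e <;> simp [e]
      have heb2 : (eb : ℂ) ^ 2 = 1 := by rcases heb1 with e | e <;> simp [e]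
      rw [hea2, heb2] at h
      have e1 : (xa : ℂ) ≠ 0 := Nat.cast_ne_zero.2 hxa0.ne'
      have e2 : (xb : ℂ) ≠ 0 := Nat.cast_ne_zero.2 hxb0.ne'
      have e3 : (f : ℂ) ≠ 0 := Nat.cast_ne_zero.2 hf0.ne'
      field_simp at h
      linear_combination -h
    have h9' : ea * xb * f + eb * xa * f + 9 * δ * xa * xb = (xa : ℤ) * xb * f := by
      exact_mod_cast h9
    have ha' : (15 : ℤ) ≤ xa := by exact_mod_cast hxa15
    have hb' : (15 : ℤ) ≤ xb := by exact_mod_cast hxb15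
    have hpa : (0 : ℤ) < xa := lt_of_lt_of_le (by norm_num) ha'
    have hpb : (0 : ℤ) < xb := lt_of_lt_of_le (by norm_num) hb'
    rcases eq_or_ne f 3 with hf3 | hf3
    · rw [hf3] at h9'
      push_cast at h9'
      have hb1 : 15 * (xb : ℤ) ≤ (xa : ℤ) * xb := mul_le_mul_of_nonneg_right ha' hpb.le
      have hb2 : (xa : ℤ) * 15 ≤ (xa : ℤ) * xb := mul_le_mul_of_nonneg_left hb' hpa.le
      rcases hea1 with e1 | e1 <;> rcases heb1 with e2 | e2 <;> rcases hδ with e3 | e3 <;>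
        rw [e1, e2, e3] at h9' <;> linarith
    · obtain ⟨r, hr⟩ := hcongY
      have hf13 : (13 : ℤ) ≤ f := by
        have hN' : (16 : ℤ) ≤ (Nat.card (P : Subgroup G) : ℤ) := by exact_mod_cast hN16
        rcases lt_trichotomy r 0 with hr0 | hr0 | hr0
        · have : (Nat.card (P : Subgroup G) : ℤ) * r ≤ -16 := by nlinarith
          rcases hδ with e3 | e3 <;> rw [e3] at hr <;> omega
        · rw [hr0, mul_zero] at hr
          rcases hδ with e3 | e3 <;> rw [e3] at hr <;> omega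
        · have : (16 : ℤ) ≤ (Nat.card (P : Subgroup G) : ℤ) * r := by nlinarith
          rcases hδ with e3 | e3 <;> rw [e3] at hr <;> omega
      have hpf : (0 : ℤ) < f := lt_of_lt_of_le (by norm_num) hf13
      have hab1 : 15 * ((xb : ℤ) * f) ≤ (xa : ℤ) * ((xb : ℤ) * f) :=
        mul_le_mul_of_nonneg_right ha' (mul_pos hpb hpf).le
      have hab2 : 15 * ((xa : ℤ) * f) ≤ (xb : ℤ) * ((xa : ℤ) * f) :=
        mul_le_mul_of_nonneg_right hb' (mul_pos hpa hpf).le
      have hab3 : ((xa : ℤ) * xb) * 13 ≤ ((xa : ℤ) * xb) * f :=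
        mul_le_mul_of_nonneg_left hf13 (mul_pos hpa hpb).le
      have hposab : (0 : ℤ) < (xa : ℤ) * xb * f := mul_pos (mul_pos hpa hpb) hpf
      have hpos2 := mul_pos hpa hpb
      have hpos3 := mul_pos hpa hpf
      have hpos4 := mul_pos hpb hpf
      rcases hea1 with e1 | e1 <;> rcases heb1 with e2 | e2 <;> rcases hδ with e3 | e3 <;>
        rw [e1, e2, e3] at h9' <;> linarith
  -- odd characteristic
  have htreg : ¬ p ∣ orderOf t := by
    rw [ht]; exact fun h => hp2 ((Nat.prime_dvd_prime_iff_eq hp Nat.prime_two).1 h)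
  obtain ⟨va, hva⟩ := exists_int_involution a.1 ht
  obtain ⟨vb, hvb⟩ := exists_int_involution b.1 ht
  obtain ⟨ve, hve⟩ := exists_int_involution y₀.1 ht
  have hB : δ * ve + -1 + ea * va + eb * vb = 0 := by
    have h := hreg y₀ hy₀ t htreg
    rw [hsum3, hve, hS1, hone, hva, hvb, ← hea, ← heb] at h
    have h' : δ * ve + ((-1) * 1 + ea * va + eb * vb) = 0 := by exact_mod_cast h
    linarith
  haveI : Nontrivial (P : Subgroup G) := Finite.one_lt_card_iff_nontrivial.1 (by omega)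
  obtain ⟨u, hu⟩ := exists_ne (1 : (P : Subgroup G))
  have huu : (u : G) * (u : G) ≠ 1 := by
    intro h
    obtain ⟨k, hk⟩ := F.exists_orderOf u.2
    have h2 : orderOf (u : G) ∣ 2 := orderOf_dvd_of_pow_eq_one (by rw [sq]; exact h)
    rcases Nat.eq_zero_or_pos k with hk0 | hk0
    · rw [hk0, pow_zero, orderOf_eq_one_iff] at hk
      exact hu (Subtype.ext hk)
    · rw [hk] at h2
      exact hp2 ((Nat.prime_dvd_prime_iff_eq hp Nat.prime_two).1
        ((dvd_pow_self p hk0.ne').trans h2))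
  have hQ := hC u hu (F.pairs_empty hM rfl htt (Or.inl huu) hu)
  rw [sum_congr rfl (g := fun y => (δ : ℂ) * conj (∑ l ∈ range 3, (rep y (F.act l u) : ℂ)) *
      ((y₀ : IrrCharacter G) : G → ℂ) t ^ 2) fun y hy => by rw [hagree y hy t htreg],
    ← sum_mul, ← mul_sum, ← map_sum, F.sum_orbits_apply (fun y hy => (hY y hy).1) horb u,
    if_neg hu, zero_sub, map_neg, map_one, hva, hvb, hve] at hQ
  have e1 : (xa : ℂ) ≠ 0 := Nat.cast_ne_zero.2 hxa0.ne'
  have e2 : (xb : ℂ) ≠ 0 := Nat.cast_ne_zero.2 hxb0.ne'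
  have e3 : (f : ℂ) ≠ 0 := Nat.cast_ne_zero.2 hf0.ne'
  field_simp at hQ
  have hQ' : (xa : ℤ) * xb * f - ea * va ^ 2 * xb * f - eb * vb ^ 2 * xa * f -
      δ * ve ^ 2 * xa * xb = 0 := by
    have : ((xa : ℂ) * xb * f - (ea : ℂ) * (va : ℂ) ^ 2 * xb * f - (eb : ℂ) * (vb : ℂ) ^ 2 * xa * f -
      (δ : ℂ) * (ve : ℂ) ^ 2 * xa * xb) = 0 := by linear_combination hQ
    exact_mod_cast this
  have hone1 : ∀ {z : principalBlock M G}, z ≠ one → (z.1 : G → ℂ) ≠ fun _ => 1 := fun hz h' =>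
    hz (Subtype.ext (Subtype.ext (by rw [h']; exact (funext hone).symm)))
  have hDa : va - (xa : ℤ) ≠ 0 := fun h => F.apply_ne_degree (hone1 hao) hgen (by
    rw [hva, hxaC]; exact_mod_cast sub_eq_zero.1 h)
  have hDb : vb - (xb : ℤ) ≠ 0 := fun h => F.apply_ne_degree (hone1 hbo) hgen (by
    rw [hvb, hxbC]; exact_mod_cast sub_eq_zero.1 h)
  have hDe : ve - (f : ℤ) ≠ 0 := fun h => F.apply_ne_degree
    (hone1 (z := y₀) (fun he => hnm one (by simp) (he ▸ hy₀))) hgen (by
      rw [hve, hfC y₀ hy₀]; exact_mod_cast sub_eq_zero.1 h)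
  have hea0 : ea ≠ 0 := by omega
  have heb0 : eb ≠ 0 := by omega
  have hδ0 : δ ≠ 0 := by omega
  have hfz : (f : ℤ) ≠ 0 := Nat.cast_ne_zero.2 hf0.ne'
  have hxaz : (xa : ℤ) ≠ 0 := Nat.cast_ne_zero.2 hxa0.ne'
  have hxbz : (xb : ℤ) ≠ 0 := Nat.cast_ne_zero.2 hxb0.ne'
  obtain ⟨hcnt, hsquare⟩ := sign_arith (X1 := -δ * f) (X2 := -ea * xa) (X3 := -eb * xb)
    (D1 := -δ * (ve - f)) (D2 := -ea * (va - xa)) (D3 := -eb * (vb - xb))
    (by linarith) (mul_ne_zero (neg_ne_zero.2 hδ0) hfz) (mul_ne_zero (neg_ne_zero.2 hea0) hxaz)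
    (mul_ne_zero (neg_ne_zero.2 heb0) hxbz) (mul_ne_zero (neg_ne_zero.2 hδ0) hDe)
    (mul_ne_zero (neg_ne_zero.2 hea0) hDa) (mul_ne_zero (neg_ne_zero.2 heb0) hDb)
    (by linarith) (by
      rcases hea1 with r1 | r1 <;> rcases heb1 with r2 | r2 <;> rcases hδ with r3 | r3 <;>
        subst r1 r2 r3 <;> first
        | linear_combination hQ' + (2 * (xa : ℤ) * xb * f) * hB - ((xa : ℤ) * xb * f) * hA
        | linear_combination -hQ' - (2 * (xa : ℤ) * xb * f) * hB + ((xa : ℤ) * xb * f) * hA)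
  constructor
  · rw [← hea, ← heb]
    have hfp : (0 : ℤ) < f := by exact_mod_cast hf0
    have hap : (0 : ℤ) < xa := by exact_mod_cast hxa0
    have hbp : (0 : ℤ) < xb := by exact_mod_cast hxb0
    rcases hea1 with r1 | r1 <;> rcases heb1 with r2 | r2 <;> rcases hδ with r3 | r3 <;>
      rw [r1, r2, r3] at hcnt ⊢ <;>
      simp [hfp, hap, hbp, hfp.not_gt, hap.not_gt, hbp.not_gt, hf0, hxa0, hxb0] at hcnt ⊢
  · rw [← mul_assoc]
    have : (-δ * (f : ℤ) * (-ea * xa) * (-eb * xb)).natAbs = f * xa * xb := by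
      simp only [Int.natAbs_mul, Int.natAbs_neg, Int.natAbs_natCast]
      rcases hea1 with r1 | r1 <;> rcases heb1 with r2 | r2 <;> rcases hδ with r3 | r3 <;>
        subst r1 r2 r3 <;> simp
    rwa [this] at hsquare

end FrobData

end CfsgLib.FrobeniusSylow
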