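import Cfsg.Agent.BlocksB.FrobeniusSylow.Structure

/-!
# Conjugates of linear characters and the exceptional values
-/

set_option autoImplicit false
set_option linter.style.haveILetI false
set_option linter.unusedSectionVars false

namespace CfsgLib.FrobeniusSylow

open Cfsg Finset CfsgLib.Block CfsgLib.Block.Chr CfsgLib.SL2C
open scoped Classical

universe u

variable {G : Type u} [Group G] [Fintype G] {p : ℕ} [Fact p.Prime] {P : Sylow p G} {g : G} {m : ℕ}

namespace FrobData

variable (F : FrobData P g m)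
include F

/-- The conjugates of a linear character are its translates. -/
theorem mem_conj_iff {ψ ψ' : (P : Subgroup G) →* ℂˣ} :
    (∃ n : G, n ∈ Subgroup.normalizer ((P : Subgroup G) : Set G) ∧
      ∀ w w' : (P : Subgroup G), (w' : G) = n * w * n⁻¹ → ψ' w' = ψ w) ↔
      ∃ l < m, ψ' = ψ.comp (F.act l) := by
  constructor
  · rintro ⟨n, hn, h⟩
    obtain ⟨l, d, hd, rfl⟩ := F.exists_pow n hn
    refine ⟨(m - l % m) % m, Nat.mod_lt _ F.m_pos, MonoidHom.ext fun w => ?_⟩
    rw [MonoidHom.comp_apply]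
    have hw : F.act l (F.act ((m - l % m) % m) w) = w := by
      rw [← F.act_add, F.act_mod, Nat.add_mod_mod,
        show (l + (m - l % m)) % m = 0 from ?_, F.act_zero]
      rw [← Nat.mod_add_mod]
      have := Nat.mod_lt l F.m_pos
      rw [show l % m + (m - l % m) = m by omega, Nat.mod_self]
    refine h _ w ?_
    conv_lhs => rw [← hw]
    set v := F.act ((m - l % m) % m) w
    rw [coe_act, _root_.mul_inv_rev]
    calc g ^ l * (v : G) * (g ^ l)⁻¹ = g ^ l * (d * v * d⁻¹) * (g ^ l)⁻¹ := by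
          rw [← Subgroup.mem_centralizer_iff.1 hd _ v.2, mul_inv_cancel_right]
      _ = g ^ l * d * (v : G) * (d⁻¹ * (g ^ l)⁻¹) := by group
  · rintro ⟨l, -, rfl⟩
    refine ⟨(g ^ l)⁻¹, inv_mem (pow_mem F.g_mem l), fun w w' h => ?_⟩
    rw [MonoidHom.comp_apply]
    congr 1
    refine Subtype.ext ?_
    rw [coe_act, h]
    group

/-- The translates of a translate. -/
theorem exists_translate_iff {μ ψ ψ' : (P : Subgroup G) →* ℂˣ} {j : ℕ} (hj : ψ = μ.comp (F.act j)) :
    (∃ l < m, ψ' = ψ.comp (F.act l)) ↔ ∃ l < m, ψ' = μ.comp (F.act l) := by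
  subst hj
  constructor
  · rintro ⟨l, -, rfl⟩
    refine ⟨(j + l) % m, Nat.mod_lt _ F.m_pos, MonoidHom.ext fun w => ?_⟩
    simp only [MonoidHom.comp_apply]
    rw [← F.act_add, F.act_mod]
  · rintro ⟨l, -, rfl⟩
    refine ⟨(l + (m - j % m)) % m, Nat.mod_lt _ F.m_pos, MonoidHom.ext fun w => ?_⟩
    simp only [MonoidHom.comp_apply]
    rw [← F.act_add, F.act_mod (j + _), Nat.add_mod_mod, F.act_mod l,
      show (j + (l + (m - j % m))) % m = l % m from ?_]
    have := Nat.mod_lt j F.m_pos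
    rw [show j + (l + (m - j % m)) = l + (m * (j / m) + m) by
      have := Nat.mod_add_div j m; omega, show m * (j / m) + m = m * (j / m + 1) by ring,
      Nat.add_mul_mod_self_left]

/-- The sum over the conjugates. -/
theorem finsum_conj {μ ψ : (P : Subgroup G) →* ℂˣ} (hμ : μ ≠ 1) {j : ℕ}
    (hj : ψ = μ.comp (F.act j)) (u : (P : Subgroup G)) :
    ∑ᶠ ψ' ∈ {ψ' : (P : Subgroup G) →* ℂˣ | ∃ n : G,
      n ∈ Subgroup.normalizer ((P : Subgroup G) : Set G) ∧
      ∀ w w' : (P : Subgroup G), (w' : G) = n * w * n⁻¹ → ψ' w' = ψ w}, ((ψ' u : ℂˣ) : ℂ) =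
      ∑ l ∈ range m, (μ (F.act l u) : ℂ) := by
  have hset : {ψ' : (P : Subgroup G) →* ℂˣ | ∃ n : G,
      n ∈ Subgroup.normalizer ((P : Subgroup G) : Set G) ∧
      ∀ w w' : (P : Subgroup G), (w' : G) = n * w * n⁻¹ → ψ' w' = ψ w} =
      (((range m).image fun l => μ.comp (F.act l) : Finset _) : Set _) := by
    ext ψ'
    rw [Set.mem_ofPred_eq, F.mem_conj_iff, F.exists_translate_iff hj, coe_image, Set.mem_image]
    simp only [coe_range, Set.mem_Iio, eq_comm (b := ψ')]
  rw [hset, finsum_mem_coe_finset, sum_image (F.dual_injOn hμ)]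
  rfl

end FrobData

end CfsgLib.FrobeniusSylow
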