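import Cfsg.Agent.Kinf.SectionOrth
import Cfsg.Agent.Kinf.PairSimple
import Cfsg.Agent.Transfer.Basic
import Cfsg.Agent.Blocks.LocalPrincipal
import Cfsg.Agent.Blocks.Correspond

/-!
# An abelian Sylow subgroup on whose nontrivial elements a cyclic quotient of the normalizer acts
# freely: local facts and the column relations of the principal block
-/

set_option autoImplicit false
set_option linter.style.haveILetI false
set_option linter.unusedSectionVars false

namespace CfsgLib.FrobeniusSylow

open Cfsg Finset CfsgLib.Block CfsgLib.Block.Chr CfsgLib.SectionCount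
open scoped ComplexConjugate
open scoped Classical

universe u

variable {G : Type u} [Group G] [Fintype G] {p : ℕ} [Fact p.Prime]

/-- The hypotheses. -/
structure FrobData (P : Sylow p G) (g : G) (m : ℕ) : Prop where
  comm : IsMulCommutative (P : Subgroup G)
  g_mem : g ∈ Subgroup.normalizer ((P : Subgroup G) : Set G)
  gen : Subgroup.centralizer ((P : Subgroup G) : Set G) ⊔ Subgroup.zpowers g =
    Subgroup.normalizer ((P : Subgroup G) : Set G)
  index : (Subgroup.centralizer ((P : Subgroup G) : Set G)).relIndex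
    (Subgroup.normalizer ((P : Subgroup G) : Set G)) = m
  fpf : ∀ y : G, y ∈ (P : Subgroup G) → y ≠ 1 →
    Subgroup.centralizer ({y} : Set G) ⊓ Subgroup.normalizer ((P : Subgroup G) : Set G) =
      Subgroup.centralizer ((P : Subgroup G) : Set G)

namespace FrobData

variable {P : Sylow p G} {g : G} {m : ℕ} (F : FrobData P g m)
include F

theorem commute {a b : G} (ha : a ∈ (P : Subgroup G)) (hb : b ∈ (P : Subgroup G)) :
    a * b = b * a :=
  congrArg Subtype.val (F.comm.is_comm.comm ⟨a, ha⟩ ⟨b, hb⟩)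

theorem le_centralizer_singleton {y : G} (hy : y ∈ (P : Subgroup G)) :
    (P : Subgroup G) ≤ Subgroup.centralizer ({y} : Set G) := fun v hv =>
  Subgroup.mem_centralizer_singleton_iff.2 (F.commute hv hy)

theorem exists_pow (n : G) (hn : n ∈ Subgroup.normalizer ((P : Subgroup G) : Set G)) :
    ∃ l : ℕ, ∃ d ∈ Subgroup.centralizer ((P : Subgroup G) : Set G), n = g ^ l * d := by
  set C := Subgroup.centralizer ((P : Subgroup G) : Set G)
  have hle : Subgroup.zpowers g ≤ Subgroup.normalizer (C : Set G) :=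
    Subgroup.zpowers_le.2 (by
      rw [Subgroup.mem_normalizer_iff]
      intro x
      constructor
      · intro hx
        refine Subgroup.mem_centralizer_iff.2 fun y hy => ?_
        have hy' : g⁻¹ * y * g ∈ (P : Subgroup G) := by
          simpa using (Subgroup.mem_normalizer_iff.1 (inv_mem F.g_mem) y).1 hy
        have h := Subgroup.mem_centralizer_iff.1 hx _ hy'
        calc y * (g * x * g⁻¹) = g * (g⁻¹ * y * g * x) * g⁻¹ := by group
          _ = g * (x * (g⁻¹ * y * g)) * g⁻¹ := by rw [h]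
          _ = g * x * g⁻¹ * y := by group
      · intro hx
        refine Subgroup.mem_centralizer_iff.2 fun y hy => ?_
        have hy' : g * y * g⁻¹ ∈ (P : Subgroup G) := (Subgroup.mem_normalizer_iff.1 F.g_mem y).1 hy
        have h := Subgroup.mem_centralizer_iff.1 hx _ hy'
        calc y * x = g⁻¹ * (g * y * g⁻¹ * (g * x * g⁻¹)) * g := by group
          _ = g⁻¹ * (g * x * g⁻¹ * (g * y * g⁻¹)) * g := by rw [h]
          _ = x * y := by group)
  have hset : n ∈ ((Subgroup.zpowers g ⊔ C : Subgroup G) : Set G) := by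
    rw [SetLike.mem_coe, sup_comm, F.gen]; exact hn
  rw [Subgroup.coe_mul_of_left_le_normalizer_right _ _ hle] at hset
  obtain ⟨a, ha, d, hd, rfl⟩ := Set.mem_mul.1 hset
  obtain ⟨l, rfl⟩ := mem_powers_iff_mem_zpowers.2 ha
  exact ⟨l, d, hd, rfl⟩

theorem pow_mem_iff (l : ℕ) :
    g ^ l ∈ Subgroup.centralizer ((P : Subgroup G) : Set G) ↔ m ∣ l := by
  set C := Subgroup.centralizer ((P : Subgroup G) : Set G)
  set N := Subgroup.normalizer ((P : Subgroup G) : Set G)
  haveI hn : (C.subgroupOf N).Normal := by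
    refine ⟨fun x hx y => ?_⟩
    rw [Subgroup.mem_subgroupOf] at hx ⊢
    refine Subgroup.mem_centralizer_iff.2 fun z hz => ?_
    have hz' : (y : G)⁻¹ * z * (y : G) ∈ (P : Subgroup G) := by
      simpa using (Subgroup.mem_normalizer_iff.1 (inv_mem y.2) z).1 hz
    have h := Subgroup.mem_centralizer_iff.1 hx _ hz'
    push_cast
    calc z * ((y : G) * x * (y : G)⁻¹) = y * ((y : G)⁻¹ * z * y * x) * (y : G)⁻¹ := by group
      _ = y * (x * ((y : G)⁻¹ * z * y)) * (y : G)⁻¹ := by rw [h]
      _ = (y : G) * x * (y : G)⁻¹ * z := by group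
  set q : N →* N ⧸ C.subgroupOf N := QuotientGroup.mk' _ with hq
  set a : N ⧸ C.subgroupOf N := q ⟨g, F.g_mem⟩
  have hord : orderOf a = m := by
    have htop : Subgroup.zpowers a = ⊤ := by
      refine eq_top_iff.2 fun x _ => ?_
      obtain ⟨⟨n, hn'⟩, rfl⟩ := QuotientGroup.mk'_surjective _ x
      obtain ⟨l, d, hd, he⟩ := F.exists_pow n hn'
      have hdN : d ∈ N := Subgroup.centralizer_le_normalizer _ hd
      have h1 : (⟨n, hn'⟩ : N) = (⟨g, F.g_mem⟩ : N) ^ l * ⟨d, hdN⟩ := Subtype.ext (by simpa using he)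
      rw [h1, map_mul, map_pow,
        show QuotientGroup.mk' (C.subgroupOf N) ⟨d, hdN⟩ = 1 from
          (QuotientGroup.eq_one_iff _).2 hd, mul_one]
      exact Subgroup.npow_mem_zpowers _ l
    have h := F.index
    rw [Subgroup.relIndex, Subgroup.index] at h
    rw [← Nat.card_zpowers, htop, Subgroup.card_top]
    exact h
  rw [← hord, orderOf_dvd_iff_pow_eq_one, ← map_pow, hq, QuotientGroup.mk'_apply,
    QuotientGroup.eq_one_iff, Subgroup.mem_subgroupOf, SubmonoidClass.coe_pow]

theorem m_pos : 0 < m := by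
  rw [← F.index]; exact Nat.pos_of_ne_zero Subgroup.index_ne_zero_of_finite

/-- The power of the generator as an endomorphism of the Sylow subgroup. -/
def act (l : ℕ) : (P : Subgroup G) →* (P : Subgroup G) :=
  MonoidHom.mk' (fun u => ⟨g ^ l * (u : G) * (g ^ l)⁻¹,
      (Subgroup.mem_normalizer_iff.1 (pow_mem F.g_mem l) u).1 u.2⟩)
    fun a b => Subtype.ext (by
      show g ^ l * ((a : G) * b) * (g ^ l)⁻¹ = g ^ l * a * (g ^ l)⁻¹ * (g ^ l * b * (g ^ l)⁻¹)
      group)

theorem coe_act (l : ℕ) (u : (P : Subgroup G)) :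
    (F.act l u : G) = g ^ l * (u : G) * (g ^ l)⁻¹ := rfl

theorem act_add (i j : ℕ) (u : (P : Subgroup G)) : F.act (i + j) u = F.act i (F.act j u) :=
  Subtype.ext (by rw [coe_act, coe_act, coe_act, pow_add]; group)

theorem act_injective (l : ℕ) : Function.Injective (F.act l) := fun a b h => Subtype.ext
  (mul_left_cancel (mul_right_cancel (show g ^ l * (a : G) * (g ^ l)⁻¹ = g ^ l * b * (g ^ l)⁻¹
    from congrArg Subtype.val h)))

theorem act_surjective (l : ℕ) : Function.Surjective (F.act l) :=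
  Finite.injective_iff_surjective.1 (F.act_injective l)

theorem act_ne_one {u : (P : Subgroup G)} (hu : u ≠ 1) (l : ℕ) : F.act l u ≠ 1 := fun h =>
  hu (F.act_injective l (h.trans (map_one _).symm))

theorem act_mul_period (k : ℕ) (u : (P : Subgroup G)) : F.act (m * k) u = u := by
  refine Subtype.ext ?_
  rw [coe_act, mul_inv_eq_iff_eq_mul]
  exact (Subgroup.mem_centralizer_iff.1 ((F.pow_mem_iff _).2 (dvd_mul_right m k)) _ u.2).symm

theorem act_mod (l : ℕ) (u : (P : Subgroup G)) : F.act l u = F.act (l % m) u := by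
  conv_lhs => rw [← Nat.mod_add_div l m, F.act_add, F.act_mul_period]

theorem act_zero (u : (P : Subgroup G)) : F.act 0 u = u := Subtype.ext (by rw [coe_act]; simp)

theorem free {l : ℕ} {u : (P : Subgroup G)} (hu : u ≠ 1) (h : F.act l u = u) : m ∣ l := by
  rw [← F.pow_mem_iff, ← F.fpf u u.2 fun h' => hu (Subtype.ext h')]
  refine Subgroup.mem_inf.2 ⟨Subgroup.mem_centralizer_singleton_iff.2 ?_, pow_mem F.g_mem l⟩
  have h1 : g ^ l * (u : G) * (g ^ l)⁻¹ = u := congrArg Subtype.val h
  exact mul_inv_eq_iff_eq_mul.1 h1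

theorem act_injOn {u : (P : Subgroup G)} (hu : u ≠ 1) :
    Set.InjOn (fun l => F.act l u) ↑(range m) := by
  have key : ∀ i j, i ≤ j → j < m → F.act i u = F.act j u → i = j := by
    intro i j hij hj he
    rw [show j = (j - i) + i by omega, F.act_add] at he
    have := Nat.eq_zero_of_dvd_of_lt (F.free (F.act_ne_one hu i) he.symm) (by omega)
    omega
  intro i hi j hj he
  rw [coe_range, Set.mem_Iio] at hi hj
  rcases le_total i j with h | h
  · exact key i j h hj he
  · exact (key j i h hi he.symm).symm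

/-- **Fusion.** -/
theorem exists_act {u v : (P : Subgroup G)} (h : IsConj (u : G) v) : ∃ l < m, v = F.act l u := by
  haveI := F.comm
  obtain ⟨c, hc⟩ := isConj_iff.1 h
  obtain ⟨n, hn, hn'⟩ := Sylow.conj_eq_normalizer_conj_of_mem P (u : G) c⁻¹ u.2
    (by rw [inv_inv, hc]; exact v.2)
  rw [inv_inv, hc] at hn'
  obtain ⟨l, d, hd, he⟩ := F.exists_pow n⁻¹ (inv_mem hn)
  refine ⟨l % m, Nat.mod_lt _ F.m_pos, ?_⟩
  rw [← F.act_mod]
  refine Subtype.ext ?_
  rw [hn', coe_act, show n⁻¹ * (u : G) * n = n⁻¹ * (u : G) * (n⁻¹)⁻¹ by rw [inv_inv], he,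
    _root_.mul_inv_rev]
  calc g ^ l * d * (u : G) * (d⁻¹ * (g ^ l)⁻¹) = g ^ l * (d * u * d⁻¹) * (g ^ l)⁻¹ := by group
    _ = g ^ l * (u : G) * (g ^ l)⁻¹ := by
      rw [← Subgroup.mem_centralizer_iff.1 hd _ u.2, mul_inv_cancel_right]

theorem isConj_act (l : ℕ) (u : (P : Subgroup G)) : IsConj (u : G) (F.act l u : G) :=
  isConj_iff.2 ⟨g ^ l, rfl⟩

theorem exists_orderOf {u : G} (hu : u ∈ (P : Subgroup G)) : ∃ k, orderOf u = p ^ k := by
  obtain ⟨k, hk⟩ := IsPGroup.iff_orderOf.1 P.2 ⟨u, hu⟩
  exact ⟨k, by rw [← hk, ← Subgroup.orderOf_coe]⟩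

/-- The centralizers of the nontrivial elements have normal complements. -/
theorem exists_index_core {y : G} (hy : y ∈ (P : Subgroup G)) (hy1 : y ≠ 1) :
    ∃ a, (core p y).index = p ^ a ∧ Nat.card (P : Subgroup G) = p ^ a := by
  refine CfsgLib.PairSimple.index_core
    (TransferBasic.hasNormalPComplement_of_le_centralizer
      (P.subtype (F.le_centralizer_singleton hy)) fun x hx => ?_) P (F.le_centralizer_singleton hy)
  refine Subgroup.mem_centralizer_iff.2 fun z hz => Subtype.ext ?_
  have hxN : (x : G) ∈ Subgroup.normalizer ((P : Subgroup G) : Set G) := by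
    rw [Subgroup.mem_normalizer_iff]
    intro w
    constructor
    · intro hw
      exact (Subgroup.mem_normalizer_iff.1 hx ⟨w, F.le_centralizer_singleton hy hw⟩).1 hw
    · intro hw
      have h2 := (Subgroup.mem_normalizer_iff.1 (inv_mem hx)
        ⟨(x : G) * w * (x : G)⁻¹, F.le_centralizer_singleton hy hw⟩).1 hw
      simpa [Subgroup.mem_subgroupOf, mul_assoc] using h2
  have hxC : (x : G) ∈ Subgroup.centralizer ((P : Subgroup G) : Set G) := by
    rw [← F.fpf y hy hy1]; exact Subgroup.mem_inf.2 ⟨x.2, hxN⟩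
  exact Subgroup.mem_centralizer_iff.1 hxC (z : G) hz

variable {M : Ideal AlgInt} [M.IsPrime]

/-- The members of the principal block at the elements with a given `p`-part. -/
theorem apply_eq_of_pPart (hM : IsPModular p M) {χ : IrrCharacter G}
    (hχ : χ ∈ principalBlock M G) {z y : G} (hzy : IsPPart p z y) (hy : y ∈ (P : Subgroup G))
    (hy1 : y ≠ 1) : (χ : G → ℂ) z = (χ : G → ℂ) y := by
  obtain ⟨s, hs, hc, ⟨k, hk⟩, hsr⟩ := hzy
  rw [← hs]
  obtain ⟨a, ha, -⟩ := F.exists_index_core hy hy1
  set s' : Subgroup.centralizer ({y} : Set G) :=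
    ⟨s, Subgroup.mem_centralizer_singleton_iff.2 hc.eq.symm⟩
  haveI := CfsgLib.Solvable.pPrimeCore_normal (G := Subgroup.centralizer ({y} : Set G)) p
  refine principal_apply_mul_core hM hk (v := s) ⟨s', ?_, rfl⟩ hχ
  rw [SetLike.mem_coe, ← QuotientGroup.eq_one_iff, ← orderOf_eq_one_iff]
  have h1 : orderOf (s' : Subgroup.centralizer ({y} : Set G) ⧸ core p y) ∣ p ^ a := by
    rw [← ha, Subgroup.index]; exact orderOf_dvd_natCard _
  have h2 : orderOf (s' : Subgroup.centralizer ({y} : Set G) ⧸ core p y) ∣ orderOf s := by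
    rw [show orderOf s = orderOf s' from (Subgroup.orderOf_coe s').symm ▸ rfl]
    exact orderOf_map_dvd (QuotientGroup.mk' (core p y)) s'
  exact Nat.eq_one_of_dvd_coprimes ((hM.1.coprime_iff_not_dvd.2 hsr).pow_left a) h1 h2

variable [Fintype (IrrCharacter G)]

/-- **The column relations.** -/
theorem gram (hM : IsPModular p M) {u v : (P : Subgroup G)} (hu : u ≠ 1) (hv : v ≠ 1) :
    ∑ χ ∈ univ.filter (· ∈ principalBlock M G), (χ : G → ℂ) (u : G) * conj ((χ : G → ℂ) (v : G)) =
      if u ∈ (range m).image (fun l => F.act l v) then (Nat.card (P : Subgroup G) : ℂ) else 0 := by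
  obtain ⟨k, hk⟩ := F.exists_orderOf u.2
  obtain ⟨l, hl⟩ := F.exists_orderOf v.2
  obtain ⟨a, ha, hcard⟩ := F.exists_index_core u.2 fun h => hu (Subtype.ext h)
  split_ifs with h
  · obtain ⟨i, -, rfl⟩ := mem_image.1 h
    rw [hcard, ← sum_sq_principal hM hk ha]
    refine sum_congr rfl fun χ _ => ?_
    rw [CfsgLib.Char.IsClassFunction.apply_eq_of_isConj (isClassFunction_irr χ) (F.isConj_act i v)]
  · refine sum_principal_eq_zero hM hk hl ha fun hc => h ?_
    obtain ⟨i, hi, he⟩ := F.exists_act hc.symm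
    exact mem_image.2 ⟨i, mem_range.2 hi, he.symm⟩

/-- The principal block is orthogonal at the nontrivial elements and at the regular ones. -/
theorem orth_regular (hM : IsPModular p M) {u : (P : Subgroup G)} (hu : u ≠ 1) {x : G}
    (hx : ¬ p ∣ orderOf x) :
    ∑ χ ∈ univ.filter (· ∈ principalBlock M G), (χ : G → ℂ) x * conj ((χ : G → ℂ) (u : G)) = 0 := by
  obtain ⟨k, hk⟩ := F.exists_orderOf u.2
  have hu' : (u : G) ≠ 1 := fun h => hu (Subtype.ext h)
  obtain ⟨a, ha, -⟩ := F.exists_index_core u.2 hu'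
  haveI : Fintype (core p (u : G)) := Fintype.ofFinite _
  have h0 : ∑ χ : IrrCharacter G, (χ : G → ℂ) x * conj (T p (u : G) χ) = 0 := by
    simp only [T_eq_sum, map_sum, Finset.mul_sum]
    rw [Finset.sum_comm]
    refine Finset.sum_eq_zero fun v _ => ?_
    rw [column_orth, if_neg]
    intro h
    refine hx ?_
    obtain ⟨c, hc⟩ := isConj_iff.1 h
    have hord : orderOf x = orderOf ((u : G) * ((v : Subgroup.centralizer ({(u : G)} : Set G)) : G)) := by
      rw [← hc]
      exact (orderOf_injective (MulAut.conj c).toMonoidHom (MulAut.conj c).injective x).symm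
    rw [hord, (show Commute (u : G) ((v : Subgroup.centralizer ({(u : G)} : Set G)) : G) from
        (Subgroup.mem_centralizer_singleton_iff.1 (v : Subgroup.centralizer ({(u : G)} : Set G)).2).symm
      ).orderOf_mul_eq_mul_orderOf_of_coprime (by
        rw [hk, Subgroup.orderOf_coe (v : Subgroup.centralizer ({(u : G)} : Set G))]
        exact (hM.1.coprime_iff_not_dvd.2 (not_dvd_orderOf hM.1 v.2)).pow_left k), hk]
    exact dvd_mul_of_dvd_left (dvd_pow_self p fun h' => hu' (orderOf_eq_one_iff.1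
      (by rw [hk, h', pow_zero]))) _
  rw [← Finset.sum_filter_add_sum_filter_not univ (· ∈ principalBlock M G),
    Finset.sum_eq_zero (s := univ.filter fun χ => ¬χ ∈ principalBlock M G) fun χ hχ => by
      rw [T_eq_zero hM hk ha (mem_filter.1 hχ).2, map_zero, mul_zero], add_zero,
    Finset.sum_congr rfl fun χ hχ => by
      rw [T_principal hM hk (mem_filter.1 hχ).2, map_mul, map_natCast, mul_left_comm],
    ← Finset.mul_sum] at h0
  exact (mul_eq_zero.1 h0).resolve_left (Nat.cast_ne_zero.2 Nat.card_pos.ne')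

/-- The members of the principal block do not vanish at the nontrivial elements. -/
theorem apply_ne_zero (hM : IsPModular p M) {χ : IrrCharacter G} (hχ : χ ∈ principalBlock M G)
    {y : G} (hy : y ∈ (P : Subgroup G)) : (χ : G → ℂ) y ≠ 0 := by
  refine irr_apply_ne_zero_of_centralChar (M := M) fun h => ?_
  have h1 := sameBlock_symm (show SameBlock M (fun _ => (1 : ℂ)) (χ : G → ℂ) from hχ) y
  have h2 : MemLocalIdeal M (centralChar (fun _ : G => (1 : ℂ)) y) := by
    have := memLocalIdeal_sub h h1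
    rwa [sub_sub_cancel] at this
  simp only [centralChar, mul_one, div_one] at h2
  have h3 := (memLocalIdeal_natCast_iff hM).1 h2
  exact P.not_dvd_index (h3.trans (Subgroup.index_dvd_of_le (F.le_centralizer_singleton hy)))

end FrobData

end CfsgLib.FrobeniusSylow
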